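import Mathlib
import Cfsg.Prelude.Def_ClassicalGeometry
import Cfsg.Prelude.Def_GeometricClasses
import Cfsg.Agent.Lib.Helper5.TSMax

set_option linter.dupNamespace false
set_option linter.ambiguousOpen false

namespace Cfsg.Agent.Lib.Helper20.Om7S

/-!
helper19: S5683 / S5702 (the subfield subgroup of `Ω(Q)` is maximal): common definitions.
Standard setting: the rational structure is the standard one (`P = 1`, `ζ = 1`): rational vectors are the
vectors with entries in `F₀`, and `Q` takes values in `F₀` on them.  See `notes/S5683_plan.md`.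
-/

set_option autoImplicit false

namespace Cfsg.Agent.Lib.Helper19.OSub
open Cfsg.Agent.Lib.Helper19.OSub
open Cfsg Matrix QuadraticMap Cfsg.Agent.Lib.Helper25.Siegel
open _root_.Cfsg _root_.Cfsg.Agent.Lib.Helper25.Siegel

variable {ι : Type} [Fintype ι] [DecidableEq ι] {F : Type*} [Field F]

/-- the action of `GL` on vectors -/
abbrev mv (g : GL ι F) (x : ι → F) : ι → F := (g : Matrix ι ι F) *ᵥ x

/-- rational vectors: all entries in `F₀` -/
def RatV (F₀ : Subfield F) (x : ι → F) : Prop := ∀ i, x i ∈ F₀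

/-- the long root element `x ↦ x + c (B(u,x) v - B(v,x) u)` as an element of `GL`; it is `1` unless
`u, v` are singular and orthogonal -/
noncomputable def rt (Q : QuadraticForm F (ι → F)) (u v : ι → F) (c : F) : GL ι F := by
  classical
  exact if h : Q u = 0 ∧ Q v = 0 ∧ polar Q u v = 0 then
    ((siegG Q u v c h.1 h.2.1 h.2.2 : ↥(Cfsg.isometryGroup F ⇑Q)) : GL ι F) else 1

/-- the standard subfield subgroup of `Ω(Q)` -/
def H0 (F₀ : Subfield F) (Q : QuadraticForm F (ι → F)) : Subgroup (GL ι F) :=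
  Cfsg.Geo.subfieldSubgroup F₀ (1 : GL ι F) ⊓ Cfsg.Geo.omegaGL ⇑Q

/-- the standing hypotheses on the form: nondegenerate, dimension at least 13, rational -/
structure QCtx (F₀ : Subfield F) (Q : QuadraticForm F (ι → F)) : Prop where
  nd : (polarBilin Q).Nondegenerate
  card : 7 ≤ Fintype.card ι
  ratQ : ∀ x, RatV F₀ x → Q x ∈ F₀

/-- the overgroup context: `H0 ≤ M ≤ Ω`, `M ≠ Ω`, `[F : F₀]` prime -/
structure Ctx (F₀ : Subfield F) (Q : QuadraticForm F (ι → F)) (M : Subgroup (GL ι F)) : Prop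
    extends QCtx F₀ Q where
  le : H0 F₀ Q ≤ M
  le_om : M ≤ Cfsg.Geo.omegaGL ⇑Q
  ne : ¬ Cfsg.Geo.omegaGL ⇑Q ≤ M
  prime : (Module.finrank F₀ F).Prime

/-- a rational hyperbolic frame: `k` mutually orthogonal hyperbolic pairs of rational vectors -/
structure Frame (F₀ : Subfield F) (Q : QuadraticForm F (ι → F)) (k : ℕ) where
  e : Fin k → (ι → F)
  f : Fin k → (ι → F)
  rat_e : ∀ i, RatV F₀ (e i)
  rat_f : ∀ i, RatV F₀ (f i)
  Qe : ∀ i, Q (e i) = 0
  Qf : ∀ i, Q (f i) = 0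
  ee : ∀ i j, polar Q (e i) (e j) = 0
  ff : ∀ i j, polar Q (f i) (f j) = 0
  ef : ∀ i j, polar Q (e i) (f j) = if i = j then 1 else 0

/-- `d, d'` is a rational hyperbolic pair -/
structure HypPair (F₀ : Subfield F) (Q : QuadraticForm F (ι → F)) (d d' : ι → F) : Prop where
  rat : RatV F₀ d
  rat' : RatV F₀ d'
  Qd : Q d = 0
  Qd' : Q d' = 0
  dd' : polar Q d d' = 1

/-- a rationally acting isometric involution -/
structure RatInv (F₀ : Subfield F) (Q : QuadraticForm F (ι → F)) (z : GL ι F) : Prop where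
  sq : z * z = 1
  iso : z ∈ Cfsg.isometryGroup F ⇑Q
  rat : ∀ x, RatV F₀ x → RatV F₀ (mv z x)

/-- the `ε`-eigenspace of `z` -/
def Eig (z : GL ι F) (ε : F) : Submodule F (ι → F) :=
  Module.End.eigenspace (Matrix.toLin' (z : Matrix ι ι F)) ε

/-- the rational involution `-1` on the hyperbolic 4-space `⟨e₁, f₁, e₂, f₂⟩` (a word in root elements) -/
noncomputable def inv4 (Q : QuadraticForm F (ι → F)) (e₁ f₁ e₂ f₂ : ι → F) : GL ι F :=
  (rt Q e₁ e₂ 1 * rt Q f₁ f₂ 1 * rt Q e₁ e₂ 1) ^ 2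

/-- a good rational involution: it lies in `H0`, the image of `t - 1` contains a rational singular vector and
is orthogonal to two orthogonal rational hyperbolic planes -/
structure GInv (F₀ : Subfield F) (Q : QuadraticForm F (ι → F)) (t : GL ι F) : Prop where
  mem : t ∈ H0 F₀ Q
  sq : t * t = 1
  ex_a : ∃ a c : ι → F, RatV F₀ a ∧ a ≠ 0 ∧ Q a = 0 ∧ mv t c - c = a
  ex_d : ∃ d₁ d₁' d₂ d₂' : ι → F, HypPair F₀ Q d₁ d₁' ∧ HypPair F₀ Q d₂ d₂' ∧
    polar Q d₁ d₂ = 0 ∧ polar Q d₁ d₂' = 0 ∧ polar Q d₁' d₂ = 0 ∧ polar Q d₁' d₂' = 0 ∧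
    ∀ v, polar Q (mv t v - v) d₁ = 0 ∧ polar Q (mv t v - v) d₁' = 0 ∧
      polar Q (mv t v - v) d₂ = 0 ∧ polar Q (mv t v - v) d₂' = 0

end Cfsg.Agent.Lib.Helper19.OSub


end Cfsg.Agent.Lib.Helper20.Om7S
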