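import Mathlib
import Cfsg.Prelude.Def_ClassicalGeometry
import Cfsg.Prelude.Def_GeometricClasses
import Cfsg.Agent.Lib.Helper5.TSMax
import Cfsg.Agent.Lib.Helper20.Om7S.H19_OSubDefs
import Cfsg.Agent.Lib.Helper20.Om7S.H19_OSubBasic

set_option linter.dupNamespace false
set_option linter.ambiguousOpen false

namespace Cfsg.Agent.Lib.Helper20.Om7S

/-!
helper19: S5683 / S5702, descent of the rational quadratic form to `F₀` and base change of `Ω(Q₀)` into `H0`.
-/

set_option autoImplicit false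
set_option linter.unusedSectionVars false
set_option linter.unusedVariables false
set_option linter.unusedSimpArgs false

namespace Cfsg.Agent.Lib.Helper19.OSub
open Cfsg.Agent.Lib.Helper19.OSub
open Cfsg Matrix QuadraticMap Module Cfsg.Agent.Lib.Helper25.Siegel Cfsg.Agent.Lib.Helper25.CD
open _root_.Cfsg _root_.Cfsg.Agent.Lib.Helper25.Siegel _root_.Cfsg.Agent.Lib.Helper25.CD

variable {ι : Type} [Fintype ι] [DecidableEq ι] {F : Type*} [Field F]
  {F₀ : Subfield F} {Q : QuadraticForm F (ι → F)}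

/-- coercion of vectors over `F₀` to vectors over `F` -/
def up (F₀ : Subfield F) (u : ι → F₀) : ι → F := fun i => (u i : F)

theorem up_apply (u : ι → F₀) (i : ι) : up F₀ u i = (u i : F) := rfl

theorem ratV_up (u : ι → F₀) : RatV F₀ (up F₀ u) := fun i => (u i).2

theorem exists_up {x : ι → F} (hx : RatV F₀ x) : ∃ u : ι → F₀, up F₀ u = x :=
  ⟨fun i => ⟨x i, hx i⟩, rfl⟩

theorem up_injective : Function.Injective (up F₀ : (ι → F₀) → (ι → F)) := by
  intro u v huv
  funext i
  exact Subtype.ext (congrFun huv i)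

theorem up_add (u v : ι → F₀) : up F₀ (u + v) = up F₀ u + up F₀ v := rfl

theorem up_sub (u v : ι → F₀) : up F₀ (u - v) = up F₀ u - up F₀ v := rfl

theorem up_neg (u : ι → F₀) : up F₀ (-u) = -up F₀ u := rfl

theorem up_zero : up F₀ (0 : ι → F₀) = 0 := rfl

theorem up_smul (c : F₀) (u : ι → F₀) : up F₀ (c • u) = (c : F) • up F₀ u := rfl

theorem up_eq_zero {u : ι → F₀} : up F₀ u = 0 ↔ u = 0 := by
  constructor
  · intro h
    exact up_injective (h.trans up_zero.symm)
  · rintro rfl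
    rfl

/-- the polar form of `Q` on rational vectors, as a bilinear form over `F₀` -/
noncomputable def B0 (h : QCtx F₀ Q) : LinearMap.BilinMap F₀ (ι → F₀) F₀ :=
  LinearMap.mk₂ F₀ (fun u v => (⟨polar Q (up F₀ u) (up F₀ v), ratV_polar h (ratV_up u) (ratV_up v)⟩ : F₀))
    (fun u u' v => Subtype.ext (by simp only [up_add, polar_add_left]; rfl))
    (fun c u v => Subtype.ext (by simp only [up_smul, polar_smul_left]; rfl))
    (fun u v v' => Subtype.ext (by simp only [up_add, polar_add_right]; rfl))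
    (fun c u v => Subtype.ext (by simp only [up_smul, polar_smul_right]; rfl))

/-- the descended quadratic form over `F₀` -/
noncomputable def Q0 (h : QCtx F₀ Q) : QuadraticForm F₀ (ι → F₀) where
  toFun u := ⟨Q (up F₀ u), h.ratQ _ (ratV_up u)⟩
  toFun_smul c u := Subtype.ext (by
    show Q (up F₀ (c • u)) = ((c * c : F₀) : F) * Q (up F₀ u)
    rw [up_smul, QuadraticMap.map_smul]
    rfl)
  exists_companion' := ⟨B0 h, fun u v => Subtype.ext (by
    show Q (up F₀ (u + v)) = Q (up F₀ u) + Q (up F₀ v) + polar Q (up F₀ u) (up F₀ v)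
    rw [up_add]
    unfold polar
    ring)⟩

theorem Q0_apply (h : QCtx F₀ Q) (u : ι → F₀) : ((Q0 h u : F₀) : F) = Q (up F₀ u) := rfl

theorem polar_Q0 (h : QCtx F₀ Q) (u v : ι → F₀) :
    ((polar (Q0 h) u v : F₀) : F) = polar Q (up F₀ u) (up F₀ v) := by
  unfold polar
  push_cast
  rw [Q0_apply, Q0_apply, Q0_apply, up_add]

theorem Q0_eq_zero (h : QCtx F₀ Q) (u : ι → F₀) : Q0 h u = 0 ↔ Q (up F₀ u) = 0 := by
  rw [← Q0_apply h u]
  constructor
  · intro e; rw [e]; rfl
  · intro e; exact Subtype.ext e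

theorem polar_Q0_eq_zero (h : QCtx F₀ Q) (u v : ι → F₀) :
    polar (Q0 h) u v = 0 ↔ polar Q (up F₀ u) (up F₀ v) = 0 := by
  rw [← polar_Q0 h u v]
  constructor
  · intro e; rw [e]; rfl
  · intro e; exact Subtype.ext e

theorem polar_Q0_eq_one (h : QCtx F₀ Q) (u v : ι → F₀) :
    polar (Q0 h) u v = 1 ↔ polar Q (up F₀ u) (up F₀ v) = 1 := by
  rw [← polar_Q0 h u v]
  constructor
  · intro e; rw [e]; rfl
  · intro e; exact Subtype.ext e

theorem sum_single (x : ι → F) : x = ∑ i, x i • (Pi.single i (1 : F) : ι → F) := by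
  funext j
  rw [Finset.sum_apply]
  simp [Pi.single_apply]

theorem lin_zero_of_single (φ : (ι → F) →ₗ[F] F) (h : ∀ i, φ (Pi.single i 1) = 0) (y : ι → F) :
    φ y = 0 := by
  rw [sum_single y, map_sum]
  apply Finset.sum_eq_zero
  intro i _
  rw [map_smul, h i, smul_zero]

theorem polar_zero_of_rat {x : ι → F} (h : ∀ y, RatV F₀ y → polar Q x y = 0) (y : ι → F) :
    polar Q x y = 0 := by
  have := lin_zero_of_single (polarBilin Q x) (fun i => by
    rw [polarBilin_apply_apply]
    exact h _ (ratV_single i)) y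
  rwa [polarBilin_apply_apply] at this

/-- a quadratic form vanishing on rational vectors vanishes -/
theorem qf_zero_of_rat {D : QuadraticForm F (ι → F)} (h : ∀ y, RatV F₀ y → D y = 0) (x : ι → F) :
    D x = 0 := by
  have hpol : ∀ x y, polar D x y = 0 := by
    intro x y
    apply polar_zero_of_rat (F₀ := F₀)
    intro y hy
    rw [polar_comm]
    apply polar_zero_of_rat (F₀ := F₀)
    intro x hx
    unfold polar
    rw [h _ (ratV_add hy hx), h _ hy, h _ hx]
    ring
  have hadd : ∀ a b, D (a + b) = D a + D b := by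
    intro a b
    have := hpol a b
    unfold polar at this
    linear_combination this
  have hsum : ∀ (S : Finset ι) (f : ι → (ι → F)), D (∑ i ∈ S, f i) = ∑ i ∈ S, D (f i) := by
    intro S f
    induction S using Finset.induction_on with
    | empty => simp
    | insert a S ha ih => rw [Finset.sum_insert ha, Finset.sum_insert ha, hadd, ih]
  rw [sum_single x, hsum]
  apply Finset.sum_eq_zero
  intro i _
  rw [QuadraticMap.map_smul, h _ (ratV_single i), smul_zero]

theorem mv_map_up (g0 : GL ι F₀) (u : ι → F₀) :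
    mv (Matrix.GeneralLinearGroup.map (F₀.subtype : F₀ →+* F) g0) (up F₀ u) =
      up F₀ ((g0 : Matrix ι ι F₀) *ᵥ u) := by
  funext i
  unfold mv up
  simp only [Matrix.mulVec, dotProduct]
  rw [AddSubmonoidClass.coe_finsetSum]
  apply Finset.sum_congr rfl
  intro j _
  rfl

theorem map_mem_iso (h : QCtx F₀ Q) {g0 : GL ι F₀} (hg0 : g0 ∈ Cfsg.isometryGroup F₀ ⇑(Q0 h)) :
    Matrix.GeneralLinearGroup.map (F₀.subtype : F₀ →+* F) g0 ∈ Cfsg.isometryGroup F ⇑Q := by
  obtain ⟨g, hg⟩ : ∃ g, g = Matrix.GeneralLinearGroup.map (F₀.subtype : F₀ →+* F) g0 := ⟨_, rfl⟩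
  rw [← hg]
  intro x _
  show Q (mv g x) = Q x
  have key : ∀ y, (Q.comp (Matrix.toLin' (g : Matrix ι ι F)) - Q) y = 0 := by
    apply qf_zero_of_rat (F₀ := F₀)
    intro y hy
    obtain ⟨u, rfl⟩ := exists_up hy
    rw [_root_.sub_apply, QuadraticMap.comp_apply, Matrix.toLin'_apply, sub_eq_zero]
    show Q (mv g (up F₀ u)) = Q (up F₀ u)
    rw [hg, mv_map_up, ← Q0_apply, ← Q0_apply]
    congr 1
    exact hg0 u u
  have := key x
  rw [_root_.sub_apply, QuadraticMap.comp_apply, Matrix.toLin'_apply, sub_eq_zero] at this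
  exact this

theorem Q0_nondeg (h : QCtx F₀ Q) : (polarBilin (Q0 h)).Nondegenerate := by
  constructor
  · intro u hu
    apply up_eq_zero.mp
    apply h.nd.1
    intro y
    rw [polarBilin_apply_apply]
    apply polar_zero_of_rat (F₀ := F₀)
    intro y hy
    obtain ⟨v, rfl⟩ := exists_up hy
    have := hu v
    rw [polarBilin_apply_apply] at this
    exact (polar_Q0_eq_zero h u v).mp this
  · intro u hu
    apply up_eq_zero.mp
    apply h.nd.2
    intro y
    rw [polarBilin_apply_apply, polar_comm]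
    apply polar_zero_of_rat (F₀ := F₀)
    intro y hy
    obtain ⟨v, rfl⟩ := exists_up hy
    have := hu v
    rw [polarBilin_apply_apply] at this
    rw [polar_comm]
    exact (polar_Q0_eq_zero h v u).mp this


/-- the commutator subgroup `Ω` inside `GL` is the commutator of the isometry group -/
theorem omegaGL_eq_comm {K : Type*} [Field K] (D : (ι → K) → K) :
    Cfsg.Geo.omegaGL D = ⁅Cfsg.isometryGroup K D, Cfsg.isometryGroup K D⁆ := by
  unfold Cfsg.Geo.omegaGL Cfsg.Omega
  rw [commutator_def, Subgroup.map_commutator]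
  have : Subgroup.map (Cfsg.isometryGroup K D).subtype ⊤ = Cfsg.isometryGroup K D := by
    rw [← MonoidHom.range_eq_map, Subgroup.range_subtype]
  rw [this]

theorem map_mem_omega (h : QCtx F₀ Q) {g0 : GL ι F₀} (hg0 : g0 ∈ Cfsg.Geo.omegaGL ⇑(Q0 h)) :
    Matrix.GeneralLinearGroup.map (F₀.subtype : F₀ →+* F) g0 ∈ Cfsg.Geo.omegaGL ⇑Q := by
  rw [omegaGL_eq_comm] at hg0 ⊢
  have hle : (⁅Cfsg.isometryGroup F₀ ⇑(Q0 h), Cfsg.isometryGroup F₀ ⇑(Q0 h)⁆).map
      (Matrix.GeneralLinearGroup.map (F₀.subtype : F₀ →+* F)) ≤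
      ⁅Cfsg.isometryGroup F ⇑Q, Cfsg.isometryGroup F ⇑Q⁆ := by
    rw [Subgroup.map_commutator]
    apply Subgroup.commutator_mono <;>
    · rintro _ ⟨x, hx, rfl⟩
      exact map_mem_iso h hx
  exact hle ⟨g0, hg0, rfl⟩

/-- base change of `Ω(Q0)` lands in `H0` -/
theorem map_mem_H0 (h : QCtx F₀ Q) {g0 : GL ι F₀} (hg0 : g0 ∈ Cfsg.Geo.omegaGL ⇑(Q0 h)) :
    Matrix.GeneralLinearGroup.map (F₀.subtype : F₀ →+* F) g0 ∈ H0 F₀ Q := by
  refine Subgroup.mem_inf.mpr ⟨?_, map_mem_omega h hg0⟩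
  unfold Cfsg.Geo.subfieldSubgroup
  rw [Subgroup.mem_map]
  refine ⟨_, Subgroup.mem_sup_left ⟨g0, rfl⟩, ?_⟩
  simp

/-- the base change acts rationally, and so does its inverse -/
theorem ratV_mv_map (g0 : GL ι F₀) {x : ι → F} (hx : RatV F₀ x) :
    RatV F₀ (mv (Matrix.GeneralLinearGroup.map (F₀.subtype : F₀ →+* F) g0) x) := by
  obtain ⟨u, rfl⟩ := exists_up hx
  rw [mv_map_up]
  exact ratV_up _

theorem ratV_mv_map_inv (g0 : GL ι F₀) {x : ι → F} (hx : RatV F₀ x) :
    RatV F₀ (mv (Matrix.GeneralLinearGroup.map (F₀.subtype : F₀ →+* F) g0)⁻¹ x) := by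
  rw [← map_inv]
  exact ratV_mv_map g0⁻¹ hx

end Cfsg.Agent.Lib.Helper19.OSub


end Cfsg.Agent.Lib.Helper20.Om7S
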