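import Mathlib
import Cfsg.Prelude.Def_ClassicalGeometry
import Cfsg.Prelude.Def_GeometricClasses
import Cfsg.Agent.Lib.Helper5.TSMax
import Cfsg.Agent.Lib.Helper20.Om7S.H19_OSubDefs
import Cfsg.Agent.Lib.Helper20.Om7S.H19_OSubBasic
import Cfsg.Agent.Lib.Helper20.Om7S.H19_OSubDescent
import Cfsg.Agent.Lib.Helper15.QuadClass
import Cfsg.Agent.Lib.Helper18.OSubGF

set_option linter.dupNamespace false
set_option linter.ambiguousOpen false

namespace Cfsg.Agent.Lib.Helper20.Om7S

/-!
# S5683 leaves F1 (`exists_frame`) and F2 (`exists_perp_pairs`): rational hyperbolic frames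
-/

set_option autoImplicit false
set_option linter.unusedSectionVars false
set_option linter.unusedVariables false

namespace Cfsg.Agent.Lib.Helper18.OSubLeaf
open Cfsg.Agent.Lib.Helper18.OSubLeaf
open _root_.Cfsg.Agent.Lib.Helper18.OSubLeaf
open _root_.Cfsg.Agent.Lib.Helper18
open Cfsg Matrix QuadraticMap Module Cfsg.Agent.Lib.Helper25.Siegel Cfsg.Agent.Lib.Helper19.OSub
  Cfsg.Agent.Lib.Helper15
open _root_.Cfsg _root_.Cfsg.Agent.Lib.Helper25.Siegel _root_.Cfsg.Agent.Lib.Helper15

/-- a nondegenerate subspace orthogonal to a given subspace `U`, of codimension at most `2 dim U` -/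
theorem exists_nd_perp {K V : Type*} [Field K] [AddCommGroup V] [Module K V]
    [FiniteDimensional K V] (D : QuadraticForm K V) (hD : (polarBilin D).Nondegenerate)
    (U : Submodule K V) :
    ∃ W : Submodule K V, NdOn D W ∧ (∀ u ∈ U, ∀ w ∈ W, polar D u w = 0) ∧
      finrank K V ≤ finrank K W + 2 * finrank K U := by
  set B := polarBilin D with hB
  set W₁ := LinearMap.BilinForm.orthogonal B U with hW₁
  set O₁ := LinearMap.BilinForm.orthogonal B W₁ with hO₁
  have h1 : finrank K W₁ = finrank K V - finrank K U :=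
    LinearMap.BilinForm.finrank_orthogonal hD U
  have h2 : finrank K O₁ = finrank K V - finrank K W₁ :=
    LinearMap.BilinForm.finrank_orthogonal hD W₁
  have hU : finrank K U ≤ finrank K V := Submodule.finrank_le U
  -- the radical of `W₁` inside `W₁` and a complement
  set R' : Submodule K ↥W₁ := (W₁ ⊓ O₁).comap W₁.subtype with hR'
  obtain ⟨C', hC'⟩ := Submodule.exists_isCompl R'
  have hsum := Submodule.finrank_add_eq_of_isCompl hC'
  have hR'le : finrank K R' ≤ finrank K O₁ := by
    have e := (Submodule.comapSubtypeEquivOfLe (p := W₁ ⊓ O₁) (q := W₁) inf_le_left).finrank_eq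
    rw [hR', e]
    exact Submodule.finrank_mono inf_le_right
  refine ⟨C'.map W₁.subtype, ?_, ?_, ?_⟩
  · -- nondegenerate
    intro w hw hall
    obtain ⟨w', hw'C, rfl⟩ := hw
    have hwW₁ : (w' : V) ∈ W₁ := w'.2
    -- `w'` is orthogonal to all of `W₁`
    have horth : ∀ v ∈ W₁, polar D (w' : V) v = 0 := by
      intro v hv
      have hv' : (⟨v, hv⟩ : ↥W₁) ∈ R' ⊔ C' := by rw [hC'.sup_eq_top]; trivial
      obtain ⟨r, hr, c, hc, hrc⟩ := Submodule.mem_sup.mp hv'
      have hv2 : v = (r : V) + (c : V) := by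
        have := congrArg Subtype.val hrc
        simpa using this.symm
      rw [hv2, polar_add_right]
      have hr2 : (r : V) ∈ O₁ := hr.2
      have e1 : polar D (w' : V) (r : V) = 0 := by
        have := (LinearMap.BilinForm.mem_orthogonal_iff.mp hr2) (w' : V) hwW₁
        rwa [hB, polarBilin_apply_apply] at this
      have e2 : polar D (w' : V) (c : V) = 0 := hall _ ⟨c, hc, rfl⟩
      rw [e1, e2, add_zero]
    have hwR : w' ∈ R' := by
      refine ⟨hwW₁, ?_⟩
      show (w' : V) ∈ O₁
      rw [hO₁, LinearMap.BilinForm.mem_orthogonal_iff]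
      intro v hv
      rw [hB, polarBilin_apply_apply, polar_comm]
      exact horth v hv
    have : w' ∈ R' ⊓ C' := ⟨hwR, hw'C⟩
    rw [hC'.inf_eq_bot] at this
    have h0 : w' = 0 := (Submodule.mem_bot K).mp this
    simp [h0]
  · intro u hu w hw
    obtain ⟨w', -, rfl⟩ := hw
    have := (LinearMap.BilinForm.mem_orthogonal_iff.mp w'.2) u hu
    rwa [hB, polarBilin_apply_apply] at this
  · have hmap : finrank K ↥(C'.map W₁.subtype) = finrank K C' :=
      (Submodule.equivMapOfInjective W₁.subtype (Submodule.subtype_injective W₁) C').finrank_eq.symm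
    rw [hmap]
    omega

variable {ι : Type} [Fintype ι] [DecidableEq ι] {F : Type*} [Field F] [Fintype F]
  {F₀ : Subfield F} {Q : QuadraticForm F (ι → F)} {M : Subgroup (GL ι F)}

/-- F1 -/
theorem exists_frame (h : QCtx F₀ Q) : Nonempty (Frame F₀ Q 3) := by
  have hfr : 2 * 3 + 1 ≤ finrank F₀ (⊤ : Submodule F₀ (ι → F₀)) := by
    rw [finrank_top, Module.finrank_fintype_fun_eq_card]
    exact h.card
  obtain ⟨e, f, -, -, he, hf, hee, hff, hef⟩ :=
    exists_frame_in (Q0 h) 3 ⊤ (ndOn_top (Q0 h) (Q0_nondeg h)) hfr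
  refine ⟨{ e := fun i => up F₀ (e i), f := fun i => up F₀ (f i),
            rat_e := fun i => ratV_up _, rat_f := fun i => ratV_up _,
            Qe := fun i => (Q0_eq_zero h _).mp (he i),
            Qf := fun i => (Q0_eq_zero h _).mp (hf i),
            ee := fun i j => (polar_Q0_eq_zero h _ _).mp (hee i j),
            ff := fun i j => (polar_Q0_eq_zero h _ _).mp (hff i j),
            ef := fun i j => ?_ }⟩
  have := hef i j
  by_cases hij : i = j
  · rw [if_pos hij] at this ⊢
    exact (polar_Q0_eq_one h _ _).mp this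
  · rw [if_neg hij] at this ⊢
    exact (polar_Q0_eq_zero h _ _).mp this

end Cfsg.Agent.Lib.Helper18.OSubLeaf


end Cfsg.Agent.Lib.Helper20.Om7S
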