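import Mathlib
import Cfsg.Prelude.Def_ClassicalGeometry
import Cfsg.Prelude.Def_GeometricClasses
import Cfsg.Agent.Lib.Helper5.TSMax
import Cfsg.Agent.Lib.Helper20.Om7S.H19_OSubDefs
import Cfsg.Agent.Lib.Helper20.Om7S.H19_OSubBasic
import Cfsg.Agent.Lib.Helper20.Om7S.H19_OSubDescent

set_option linter.dupNamespace false
set_option linter.ambiguousOpen false

namespace Cfsg.Agent.Lib.Helper20.Om7S

/-!
# S5683 leaves ND (`comp_nondeg`) and R2 (`maximal_transfer`): change of coordinates by `P`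
-/

set_option autoImplicit false
set_option linter.unusedSectionVars false
set_option linter.unusedVariables false

namespace Cfsg.Agent.Lib.Helper18.OSubLeaf
open Cfsg.Agent.Lib.Helper18.OSubLeaf
open Cfsg Matrix QuadraticMap Module Cfsg.Agent.Lib.Helper25.Siegel Cfsg.Agent.Lib.Helper19.OSub
open _root_.Cfsg _root_.Cfsg.Agent.Lib.Helper25.Siegel
open scoped commutatorElement

variable {ι : Type} [Fintype ι] [DecidableEq ι] {F : Type*} [Field F] [Fintype F]
  {F₀ : Subfield F} {Q : QuadraticForm F (ι → F)} {M : Subgroup (GL ι F)}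

lemma gl_mulVec_inv_mulVec (P : GL ι F) (y : ι → F) :
    (P : Matrix ι ι F) *ᵥ (((P⁻¹ : GL ι F) : Matrix ι ι F) *ᵥ y) = y := by
  rw [Matrix.mulVec_mulVec, ← Units.val_mul, mul_inv_cancel, Units.val_one, Matrix.one_mulVec]

lemma gl_inv_mulVec_mulVec (P : GL ι F) (y : ι → F) :
    ((P⁻¹ : GL ι F) : Matrix ι ι F) *ᵥ ((P : Matrix ι ι F) *ᵥ y) = y := by
  rw [Matrix.mulVec_mulVec, ← Units.val_mul, inv_mul_cancel, Units.val_one, Matrix.one_mulVec]

/-- ND: nondegeneracy is invariant under a linear change of coordinates -/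
theorem comp_nondeg (Q : QuadraticForm F (ι → F)) (P : GL ι F) (hQ : (polarBilin Q).Nondegenerate) :
    (polarBilin (Q.comp (Matrix.toLin' (P : Matrix ι ι F)))).Nondegenerate := by
  have hpol : ∀ x y, polar (Q.comp (Matrix.toLin' (P : Matrix ι ι F))) x y =
      polar Q ((P : Matrix ι ι F) *ᵥ x) ((P : Matrix ι ι F) *ᵥ y) := by
    intro x y
    unfold polar
    simp only [QuadraticMap.comp_apply, Matrix.toLin'_apply, Matrix.mulVec_add]
  constructor
  · intro x hx
    have h0 : (P : Matrix ι ι F) *ᵥ x = 0 := by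
      apply hQ.1
      intro z
      have := hx (((P⁻¹ : GL ι F) : Matrix ι ι F) *ᵥ z)
      rwa [polarBilin_apply_apply, hpol, gl_mulVec_inv_mulVec, ← polarBilin_apply_apply] at this
    have := congrArg (fun v => ((P⁻¹ : GL ι F) : Matrix ι ι F) *ᵥ v) h0
    simpa [gl_inv_mulVec_mulVec] using this
  · intro y hy
    have h0 : (P : Matrix ι ι F) *ᵥ y = 0 := by
      apply hQ.2
      intro z
      have := hy (((P⁻¹ : GL ι F) : Matrix ι ι F) *ᵥ z)
      rwa [polarBilin_apply_apply, hpol, gl_mulVec_inv_mulVec, ← polarBilin_apply_apply] at this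
    have := congrArg (fun v => ((P⁻¹ : GL ι F) : Matrix ι ι F) *ᵥ v) h0
    simpa [gl_inv_mulVec_mulVec] using this

/-- conjugation by `P` carries the isometry group of `Q ∘ P` onto the isometry group of `Q` -/
lemma isometryGroup_comp (Q : QuadraticForm F (ι → F)) (P : GL ι F) :
    (Cfsg.isometryGroup F ⇑(Q.comp (Matrix.toLin' (P : Matrix ι ι F)))).map
      (MulAut.conj P).toMonoidHom = Cfsg.isometryGroup F ⇑Q := by
  ext g
  constructor
  · rintro ⟨g', hg', rfl⟩
    intro u v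
    have := hg' (((P⁻¹ : GL ι F) : Matrix ι ι F) *ᵥ u) (((P⁻¹ : GL ι F) : Matrix ι ι F) *ᵥ v)
    simp only [QuadraticMap.comp_apply, Matrix.toLin'_apply, Units.coeHom_apply,
      gl_mulVec_inv_mulVec] at this
    simp only [MulEquiv.coe_toMonoidHom, MulAut.conj_apply, Units.coeHom_apply, Units.val_mul]
    rw [← Matrix.mulVec_mulVec, ← Matrix.mulVec_mulVec]
    exact this
  · intro hg
    refine ⟨P⁻¹ * g * P, ?_, ?_⟩
    · intro u v
      have := hg ((P : Matrix ι ι F) *ᵥ u) ((P : Matrix ι ι F) *ᵥ v)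
      simp only [Units.coeHom_apply] at this
      simp only [QuadraticMap.comp_apply, Matrix.toLin'_apply, Units.coeHom_apply, Units.val_mul]
      rw [← Matrix.mulVec_mulVec, ← Matrix.mulVec_mulVec, gl_mulVec_inv_mulVec]
      exact this
    · simp only [MulEquiv.coe_toMonoidHom, MulAut.conj_apply]
      group

lemma omegaGL_comp (Q : QuadraticForm F (ι → F)) (P : GL ι F) :
    (Cfsg.Geo.omegaGL ⇑(Q.comp (Matrix.toLin' (P : Matrix ι ι F)))).map
      (MulAut.conj P).toMonoidHom = Cfsg.Geo.omegaGL ⇑Q := by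
  rw [omegaGL_eq_comm, omegaGL_eq_comm, Subgroup.map_commutator, isometryGroup_comp]

lemma subfieldSubgroup_one_map (F₀ : Subfield F) (P : GL ι F) :
    (Cfsg.Geo.subfieldSubgroup F₀ (1 : GL ι F)).map (MulAut.conj P).toMonoidHom =
      Cfsg.Geo.subfieldSubgroup F₀ P := by
  unfold Cfsg.Geo.subfieldSubgroup
  have h1 : (MulAut.conj (1 : GL ι F)).toMonoidHom = MonoidHom.id (GL ι F) := by
    ext g : 1
    simp
  rw [h1, Subgroup.map_id]

/-- R2: transfer along conjugation by `P`: `Q' := Q ∘ P` -/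
theorem maximal_transfer (Q : QuadraticForm F (ι → F)) (F₀ : Subfield F) (P : GL ι F)
    (hmax : Cfsg.Geo.IsMaximalIn (Cfsg.Geo.omegaGL ⇑(Q.comp (Matrix.toLin' (P : Matrix ι ι F))))
      (H0 F₀ (Q.comp (Matrix.toLin' (P : Matrix ι ι F))))) :
    Cfsg.Geo.IsMaximalIn (Cfsg.Geo.omegaGL ⇑Q)
      (Cfsg.Geo.subfieldSubgroup F₀ P ⊓ Cfsg.Geo.omegaGL ⇑Q) := by
  have hinj : Function.Injective (MulAut.conj P).toMonoidHom := (MulAut.conj P).injective
  have h := Cfsg.Agent.Lib.Helper5.TSMax.isMaximalIn_map (MulAut.conj P).toMonoidHom hinj hmax.1 hmax.2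
  rw [omegaGL_comp] at h
  have h2 : (H0 F₀ (Q.comp (Matrix.toLin' (P : Matrix ι ι F)))).map (MulAut.conj P).toMonoidHom =
      Cfsg.Geo.subfieldSubgroup F₀ P ⊓ Cfsg.Geo.omegaGL ⇑Q := by
    unfold H0
    rw [Subgroup.map_inf _ _ _ hinj, subfieldSubgroup_one_map, omegaGL_comp]
  rwa [h2] at h

end Cfsg.Agent.Lib.Helper18.OSubLeaf


end Cfsg.Agent.Lib.Helper20.Om7S
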