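import Mathlib
import Cfsg.Prelude.Def_ClassicalGeometry
import Cfsg.Prelude.Def_GeometricClasses
import Cfsg.Agent.Lib.Helper5.TSMax
import Cfsg.Agent.Lib.Helper20.Om7S.H19_OSubDefs
import Cfsg.Agent.Lib.Helper20.Om7S.H19_OSubBasic
import Cfsg.Agent.Lib.Helper20.Om7S.H19_OSubDescent
import Cfsg.Agent.Lib.Helper15.QuadClass
import Cfsg.Agent.Lib.Helper25.OrthGeom

set_option linter.dupNamespace false
set_option linter.ambiguousOpen false

namespace Cfsg.Agent.Lib.Helper20.Om7S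

/-!
helper24: leaf R (`H0_lt`) of helper19's S5683 market: the standard subfield group is a proper
subgroup of `Ω(Q)` when `F₀ ≠ F`.
-/

set_option autoImplicit false
set_option linter.unusedSectionVars false
set_option linter.unusedVariables false

namespace Cfsg.Agent.Lib.Helper24.OSubLeaf19
open Cfsg.Agent.Lib.Helper24.OSubLeaf19
open Cfsg Matrix QuadraticMap Module Cfsg.Agent.Lib.Helper25.Siegel Cfsg.Agent.Lib.Helper19.OSub
open _root_.Cfsg _root_.Cfsg.Agent.Lib.Helper25.Siegel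

variable {ι : Type} [Fintype ι] [DecidableEq ι] {F : Type*} [Field F] [Fintype F]
  {F₀ : Subfield F} {Q : QuadraticForm F (ι → F)} {M : Subgroup (GL ι F)}

/-- a small rational configuration: `e₀, e₁` rational singular orthogonal, `f₀` rational with
`B(e₀,f₀) = 1`, `B(e₁,f₀) = 0`, `e₀, e₁ ≠ 0` -/
theorem r_exists_triple (h : QCtx F₀ Q) :
    ∃ e₀ e₁ f₀ : ι → F, RatV F₀ e₀ ∧ RatV F₀ e₁ ∧ RatV F₀ f₀ ∧ e₀ ≠ 0 ∧ e₁ ≠ 0 ∧
      Q e₀ = 0 ∧ Q e₁ = 0 ∧ polar Q e₀ e₁ = 0 ∧ polar Q e₀ f₀ = 1 ∧ polar Q e₁ f₀ = 0 := by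
  have hnd := Q0_nondeg h
  have hfr : Module.finrank F₀ (ι → F₀) = Fintype.card ι := Module.finrank_fintype_fun_eq_card _
  have hc := h.card
  obtain ⟨a, ha0, hQa⟩ := Cfsg.Agent.Lib.Helper15.exists_singular_of_three_le (Q0 h)
    (by rw [hfr]; omega)
  obtain ⟨b, hQb, hab⟩ := Cfsg.Agent.Lib.Helper25.Fam.exists_sing_partner (Q0 h) hnd ha0 hQa
  obtain ⟨z, hz0, hQz, haz, hbz⟩ := Cfsg.Agent.Lib.Helper25.OGeom.exists_sing_perp_pair (Q0 h) hnd
    (by rw [hfr]; omega) hQa hQb (by rw [hab]; exact one_ne_zero)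
  refine ⟨up F₀ a, up F₀ z, up F₀ b, ratV_up a, ratV_up z, ratV_up b, ?_, ?_, ?_, ?_, ?_, ?_, ?_⟩
  · intro e; exact ha0 (up_eq_zero.mp e)
  · intro e; exact hz0 (up_eq_zero.mp e)
  · exact (Q0_eq_zero h a).mp hQa
  · exact (Q0_eq_zero h z).mp hQz
  · exact (polar_Q0_eq_zero h a z).mp haz
  · exact (polar_Q0_eq_one h a b).mp hab
  · rw [polar_comm]
    exact (polar_Q0_eq_zero h b z).mp hbz

theorem r_exists_not_mem (hF : 2 ≤ Module.finrank F₀ F) : ∃ c : F, c ∉ F₀ := by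
  by_contra hcon
  push Not at hcon
  have : Module.finrank F₀ F ≤ 1 := by
    apply finrank_le_one (1 : F)
    intro w
    refine ⟨⟨w, hcon w⟩, ?_⟩
    show w * 1 = w
    rw [mul_one]
  omega

/-- `H0 < Ω` -/
theorem H0_lt (h : QCtx F₀ Q) (hF : 2 ≤ Module.finrank F₀ F) :
    H0 F₀ Q < Cfsg.Geo.omegaGL ⇑Q := by
  refine lt_of_le_of_ne inf_le_right ?_
  intro heq
  obtain ⟨e₀, e₁, f₀, he₀, he₁, hf₀, he₀0, he₁0, hQ0, hQ1, h01, h0f, h1f⟩ := r_exists_triple h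
  obtain ⟨c, hc⟩ := r_exists_not_mem (F₀ := F₀) hF
  have hmem : rt Q e₀ e₁ c ∈ Cfsg.Geo.omegaGL ⇑Q :=
    rt_mem_omega h.nd (by have := h.card; omega) e₀ e₁ c
  rw [← heq] at hmem
  have hsub := (Subgroup.mem_inf.mp hmem).1
  obtain ⟨μ, hμ0, hμ⟩ := rat_of_mem_sub1 F₀ _ hsub
  -- μ ∈ F₀ from the fixed vector e₀
  have hμF : μ ∈ F₀ := by
    obtain ⟨r, hr, hgr⟩ := hμ e₀ he₀
    rw [mv_rt hQ0 hQ1 h01, polar_self_sing hQ0, polar_comm Q e₁ e₀, h01] at hgr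
    simp only [zero_smul, sub_self, smul_zero, add_zero] at hgr
    obtain ⟨i, hi⟩ : ∃ i, e₀ i ≠ 0 := by
      by_contra hcon
      push Not at hcon
      exact he₀0 (funext hcon)
    have h1 : e₀ i = μ * r i := by
      have := congrFun hgr i
      rwa [Pi.smul_apply, smul_eq_mul] at this
    have hri : r i ≠ 0 := by
      intro h0
      rw [h0, mul_zero] at h1
      exact hi h1
    have h2 : μ = e₀ i * (r i)⁻¹ := by
      rw [h1, mul_assoc, mul_inv_cancel₀ hri, mul_one]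
    rw [h2]
    exact F₀.mul_mem (he₀ i) (F₀.inv_mem (hr i))
  -- the image of f₀
  obtain ⟨r, hr, hgr⟩ := hμ f₀ hf₀
  rw [mv_rt hQ0 hQ1 h01, h0f, h1f] at hgr
  simp only [one_smul, zero_smul, sub_zero] at hgr
  obtain ⟨j, hj⟩ : ∃ j, e₁ j ≠ 0 := by
    by_contra hcon
    push Not at hcon
    exact he₁0 (funext hcon)
  have h3 : f₀ j + c * e₁ j = μ * r j := by
    have := congrFun hgr j
    rwa [Pi.add_apply, Pi.smul_apply, Pi.smul_apply, smul_eq_mul, smul_eq_mul] at this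
  have h4 : c = (μ * r j - f₀ j) * (e₁ j)⁻¹ := by
    rw [← h3, add_sub_cancel_left, mul_assoc, mul_inv_cancel₀ hj, mul_one]
  apply hc
  rw [h4]
  exact F₀.mul_mem (F₀.sub_mem (F₀.mul_mem hμF (hr j)) (hf₀ j)) (F₀.inv_mem (he₁ j))

end Cfsg.Agent.Lib.Helper24.OSubLeaf19


end Cfsg.Agent.Lib.Helper20.Om7S
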