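import Mathlib
import Cfsg.Prelude.Def_ClassicalGeometry
import Cfsg.Prelude.Def_GeometricClasses
import Cfsg.Agent.Lib.Helper20.Om7S.H19_OSubDefs
import Cfsg.Agent.Lib.Helper20.Om7S.H19_OSubBasic

set_option linter.dupNamespace false
set_option linter.ambiguousOpen false

namespace Cfsg.Agent.Lib.Helper20.Om7S

/-!
S5683 / S5702 (helper19 market), leaf SP `exists_sing_decomp`.
-/

set_option autoImplicit false
set_option linter.unusedSectionVars false
set_option linter.unusedVariables false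

namespace Cfsg.Agent.Lib.Helper20.OSubLeaf
open Cfsg.Agent.Lib.Helper20.OSubLeaf
open Cfsg Matrix QuadraticMap Module Cfsg.Agent.Lib.Helper25.Siegel Cfsg.Agent.Lib.Helper19.OSub
open _root_.Cfsg _root_.Cfsg.Agent.Lib.Helper25.Siegel
open scoped commutatorElement

variable {ι : Type} [Fintype ι] [DecidableEq ι] {F : Type*} [Field F] [Fintype F]
  {F₀ : Subfield F} {Q : QuadraticForm F (ι → F)} {M : Subgroup (GL ι F)}

/-- SP: a vector orthogonal to `e₀` is `s + c₂ f₁ + c₃ e₁` with `s` singular and orthogonal to `e₀`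
(`e₁, f₁` a hyperbolic pair orthogonal to `e₀`); everything is rational if `x` is -/
theorem exists_sing_decomp {e₀ e₁ f₁ : ι → F} (hQe₁ : Q e₁ = 0) (hQf₁ : Q f₁ = 0)
    (h11 : polar Q e₁ f₁ = 1) (h01 : polar Q e₀ e₁ = 0) (h01' : polar Q e₀ f₁ = 0) {x : ι → F}
    (hx : polar Q e₀ x = 0) :
    ∃ (s : ι → F) (c₂ c₃ : F), Q s = 0 ∧ polar Q e₀ s = 0 ∧ x = s + c₂ • f₁ + c₃ • e₁ ∧
      (QCtx F₀ Q → RatV F₀ e₁ → RatV F₀ f₁ → RatV F₀ x → RatV F₀ s ∧ c₂ ∈ F₀ ∧ c₃ ∈ F₀) := by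
  have h11' : polar Q f₁ e₁ = 1 := by rw [polar_comm]; exact h11
  have hee : polar Q e₁ e₁ = 0 := polar_self_sing hQe₁
  have hff : polar Q f₁ f₁ = 0 := polar_self_sing hQf₁
  obtain ⟨x2, hx2⟩ : ∃ x2, x2 = x - polar Q f₁ x • e₁ - polar Q e₁ x • f₁ := ⟨_, rfl⟩
  have hx2e : polar Q x2 e₁ = 0 := by
    rw [polar_comm, hx2, polar_sub_right, polar_sub_right, polar_smul_right, polar_smul_right, hee,
      h11, smul_eq_mul, smul_eq_mul]
    ring
  have hx2f : polar Q x2 f₁ = 0 := by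
    rw [polar_comm, hx2, polar_sub_right, polar_sub_right, polar_smul_right, polar_smul_right, hff,
      h11', smul_eq_mul, smul_eq_mul]
    ring
  have h0x2 : polar Q e₀ x2 = 0 := by
    rw [hx2, polar_sub_right, polar_sub_right, polar_smul_right, polar_smul_right, hx, h01, h01',
      smul_eq_mul, smul_eq_mul]
    ring
  have hQt : Q (f₁ + (-(Q x2)) • e₁) = -(Q x2) := by
    rw [Cfsg.Agent.Lib.Helper25.MaxTS.Q_add_smul, hQf₁, hQe₁, h11']
    ring
  have hpt : polar Q x2 (f₁ + (-(Q x2)) • e₁) = 0 := by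
    rw [polar_add_right, polar_smul_right, hx2e, hx2f, smul_zero, add_zero]
  refine ⟨x2 + (f₁ + (-(Q x2)) • e₁), polar Q e₁ x - 1, polar Q f₁ x + Q x2, ?_, ?_, ?_, ?_⟩
  · rw [Cfsg.Agent.Lib.Helper25.MaxTS.Q_add, hQt, hpt]
    ring
  · rw [polar_add_right, polar_add_right, polar_smul_right, h0x2, h01, h01', smul_zero, add_zero,
      add_zero]
  · rw [hx2]
    module
  · intro h he₁ hf₁ hxr
    have hb : polar Q f₁ x ∈ F₀ := ratV_polar h hf₁ hxr
    have hc : polar Q e₁ x ∈ F₀ := ratV_polar h he₁ hxr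
    have hx2r : RatV F₀ x2 := by
      rw [hx2]
      exact ratV_sub (ratV_sub hxr (ratV_smul hb he₁)) (ratV_smul hc hf₁)
    have hq : Q x2 ∈ F₀ := h.ratQ _ hx2r
    refine ⟨ratV_add hx2r (ratV_add hf₁ (ratV_smul (F₀.neg_mem hq) he₁)), ?_, ?_⟩
    · exact F₀.sub_mem hc F₀.one_mem
    · exact F₀.add_mem hb hq

end Cfsg.Agent.Lib.Helper20.OSubLeaf


end Cfsg.Agent.Lib.Helper20.Om7S
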