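import Mathlib
import Cfsg.Prelude.Def_ClassicalGeometry
import Cfsg.Prelude.Def_GeometricClasses
import Cfsg.Agent.Lib.Helper5.TSMax
import Cfsg.Agent.Lib.Helper20.Om7S.H19_OSubDefs
import Cfsg.Agent.Lib.Helper20.Om7S.H19_OSubBasic
import Cfsg.Agent.Lib.Helper20.Om7S.H19_OSubDescent
import Cfsg.Agent.Lib.Helper20.Om7S.H24_OSubRD
import Cfsg.Agent.Lib.Helper20.Om7S.H9_OSubT12
import Cfsg.Agent.Lib.Helper20.Om7S.H18_OSubF12
import Cfsg.Agent.Lib.Helper20.Om7S.H27_OSubC1core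
import Cfsg.Agent.Lib.Helper20.Om7S.H27_OSubC2
import Cfsg.Agent.Lib.Helper20.Om7S.H26_OSubN1
import Cfsg.Agent.Lib.Helper20.Om7S.H24_OSubR
import Cfsg.Agent.Lib.Helper20.Om7S.H18_OSubR2

set_option linter.dupNamespace false
set_option linter.ambiguousOpen false

namespace Cfsg.Agent.Lib.Helper20.Om7S

/-!
S5813 (omega7, planner helper20), subfield block: the `OSub` tower of helper19's market re-run with `7 ≤ card ι` (Witt index 3:
`Frame F₀ Q 3`; N1 with a three-pair commutator), wrappers with the exact shapes used by the new leaves `K1`–`K8`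
(`notes/Om7S_leaves.lean`).  Everything lives under the prefix `Cfsg.Agent.Lib.Helper20.Om7S`.
-/

set_option autoImplicit false
set_option linter.unusedSectionVars false
set_option linter.unusedVariables false

namespace S7
open Cfsg Matrix QuadraticMap Module Cfsg.Agent.Lib.Helper25.Siegel Cfsg.Agent.Lib.Helper19.OSub
open _root_.Cfsg _root_.Cfsg.Agent.Lib.Helper25.Siegel
open Cfsg.Agent.Lib.Helper26.OSubLeaf

variable {ι : Type} [Fintype ι] [DecidableEq ι] {F : Type*} [Field F] [Fintype F]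
  {F₀ : Subfield F} {Q : QuadraticForm F (ι → F)} {M : Subgroup (GL ι F)}

/-- F1: a rational hyperbolic frame with three pairs -/
theorem exists_frame (h : QCtx F₀ Q) : Nonempty (Frame F₀ Q 3) :=
  Cfsg.Agent.Lib.Helper18.OSubLeaf.exists_frame h

/-- T1 -/
theorem t1 (h : QCtx F₀ Q) : T1Stmt F₀ Q :=
  fun ha ha0 hQa ha' ha'0 hQa' =>
    Cfsg.Agent.Lib.Helper9.OSubLeaf19.exists_H0_map_pt h ha ha0 hQa ha' ha'0 hQa'

/-- T2 -/
theorem t2 (h : QCtx F₀ Q) : T2Stmt F₀ Q :=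
  fun ha hv ha' hv' hQa hQv hQa' hQv' hav hav' hi hi' =>
    Cfsg.Agent.Lib.Helper9.OSubLeaf19.exists_H0_map_pair h ha hv ha' hv' hQa hQv hQa' hQv' hav
      hav' hi hi'

/-- C1: a rational long root subgroup meets `M` in its rational part -/
theorem nr (h : Ctx F₀ Q M) : NRStmt F₀ Q M := by
  intro u v hu hv hQu hQv huv hi c hc
  obtain ⟨fr⟩ := exists_frame h.toQCtx
  have t2' : Cfsg.Agent.Lib.Helper27.OSubCore.T2Stmt F₀ Q :=
    fun ha hv ha' hv' hQa hQv hQa' hQv' hav hav' hi hi' =>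
      Cfsg.Agent.Lib.Helper9.OSubLeaf19.exists_H0_map_pair h.toQCtx ha hv ha' hv' hQa hQv hQa'
        hQv' hav hav' hi hi'
  exact Cfsg.Agent.Lib.Helper27.OSubCore.nr_of Cfsg.Agent.Lib.Helper27.OSubLeaf.spStmt
    Cfsg.Agent.Lib.Helper27.OSubLeaf.decStmt t2' h fr hu hv hQu hQv huv hi hc

/-- RD -/
theorem rd (h : QCtx F₀ Q) : RDStmt F₀ Q :=
  fun hr => Cfsg.Agent.Lib.Helper24.OSubLeaf19.ratV_of_polar h hr

/-- N1: root elements of `M` centred at a rational singular point are rational -/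
theorem ratNS (h : Ctx F₀ Q M) {a w : ι → F} (ha : RatV F₀ a) (ha0 : a ≠ 0) (hQa : Q a = 0)
    (hQw : Q w = 0) (haw : polar Q a w = 0) (hM : rt Q a w 1 ∈ M) :
    ∃ θ : F, RatV F₀ (w - θ • a) :=
  ratNS_of h (t1 h.toQCtx) (t2 h.toQCtx) (nr h) (rd h.toQCtx) (exists_frame h.toQCtx) ha ha0 hQa
    hQw haw hM

/-- C2 -/
theorem omega_le_of_all (h : QCtx F₀ Q)
    (hall : ∀ u v : ι → F, RatV F₀ u → RatV F₀ v → ∀ c : F, rt Q u v c ∈ M) :
    Cfsg.Geo.omegaGL ⇑Q ≤ M :=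
  Cfsg.Agent.Lib.Helper27.OSubLeaf.omega_le_of_all h hall

/-- R -/
theorem H0_lt (h : QCtx F₀ Q) (hF : 2 ≤ Module.finrank F₀ F) : H0 F₀ Q < Cfsg.Geo.omegaGL ⇑Q :=
  Cfsg.Agent.Lib.Helper24.OSubLeaf19.H0_lt h hF

end S7

end Cfsg.Agent.Lib.Helper20.Om7S
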