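import Mathlib
import Cfsg.Prelude.Def_ClassicalGeometry
import Cfsg.Prelude.Def_GeometricClasses
import Cfsg.Agent.Lib.Helper20.Om7S.Wrap

set_option linter.dupNamespace false
set_option linter.ambiguousOpen false

namespace Cfsg.Agent.Lib.Helper20.Om7S

/-!
S5813 (omega7, planner helper20), subfield block, NEW proof through Dickson's generation lemma: definitions used by the
leaves `K1`–`K8` (`notes/Om7S_leaves.lean`).
-/

set_option autoImplicit false
set_option linter.unusedSectionVars false
set_option linter.unusedVariables false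

namespace S7
open Cfsg Matrix QuadraticMap Module Cfsg.Agent.Lib.Helper25.Siegel Cfsg.Agent.Lib.Helper19.OSub
open _root_.Cfsg _root_.Cfsg.Agent.Lib.Helper25.Siegel

variable {ι : Type} [Fintype ι] [DecidableEq ι] {F : Type*} [Field F]

/-- two totally singular pairs `(u, v)`, `(u', v')` in duality: `⟨u, v, u', v'⟩` is a hyperbolic 4-space, the sum of the
hyperbolic pairs `(u, u')` and `(v, v')` -/
structure Quad (Q : QuadraticForm F (ι → F)) (u v u' v' : ι → F) : Prop where
  Qu : Q u = 0
  Qv : Q v = 0
  Qu' : Q u' = 0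
  Qv' : Q v' = 0
  uv : polar Q u v = 0
  u'v' : polar Q u' v' = 0
  uu' : polar Q u u' = 1
  vv' : polar Q v v' = 1
  uv' : polar Q u v' = 0
  vu' : polar Q v u' = 0

/-- the `2 × 2` minor `B(a,x) B(b,y) - B(a,y) B(b,x)` (a Plücker coordinate of the plane `⟨x, y⟩`) -/
def minor (Q : QuadraticForm F (ι → F)) (x y a b : ι → F) : F :=
  polar Q a x * polar Q b y - polar Q a y * polar Q b x

end S7

end Cfsg.Agent.Lib.Helper20.Om7S
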