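import Mathlib
import Cfsg.Prelude.Def_ClassicalGeometry
import Cfsg.Prelude.Def_GeometricClasses
import Cfsg.Agent.Lib.Helper20.Om7S.Wrap
import Cfsg.Agent.Lib.Helper20.Om7S.KDefs

set_option linter.dupNamespace false
set_option linter.ambiguousOpen false

namespace Cfsg.Agent.Lib.Helper20.Om7S

/-!
S5825 conjunct (8) (subfield groups of `Ω(Q)`, `7 ≤ dim`, CHARACTERISTIC 2; planner helper20): definitions used by the leaves
`E0`–`E8a` (`notes/Om7E_leaves.lean`).
-/

set_option autoImplicit false
set_option linter.unusedSectionVars false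
set_option linter.unusedVariables false

namespace S7
open Cfsg Matrix QuadraticMap Module Cfsg.Agent.Lib.Helper25.Siegel Cfsg.Agent.Lib.Helper19.OSub
open _root_.Cfsg _root_.Cfsg.Agent.Lib.Helper25.Siegel

variable {ι : Type} [Fintype ι] [DecidableEq ι] {F : Type*} [Field F]

/-- `(u, v)` is a basis of a totally singular line -/
structure TS (Q : QuadraticForm F (ι → F)) (u v : ι → F) : Prop where
  Qu : Q u = 0
  Qv : Q v = 0
  uv : polar Q u v = 0
  li : LinearIndependent F ![u, v]

/-- `x` lies in the span of `u, v` -/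
def InSpan (u v x : ι → F) : Prop := ∃ a b : F, x = a • u + b • v

end S7

end Cfsg.Agent.Lib.Helper20.Om7S
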