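import Mathlib
import Cfsg.Prelude.Def_ClassicalGeometry
import Cfsg.Prelude.Def_GeometricClasses
import Cfsg.Agent.Lib.Helper20.Om7S.Wrap
import Cfsg.Agent.Lib.Helper20.Om7S.KDefs
import Cfsg.Agent.Lib.Helper20.Om7S.EDefs
import Cfsg.Agent.Lib.Helper22.Om7SL0cd

set_option linter.dupNamespace false
set_option linter.ambiguousOpen false

namespace Cfsg.Agent.Lib.Helper20.Om7S

/-!
S5825 (8), characteristic-free leaves E2a `exists_sing_perp_ne` and E2 `coset_of_line_map` of `notes/Om7E_leaves.lean`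
(helper20).
-/

set_option autoImplicit false
set_option linter.unusedSectionVars false
set_option linter.unusedVariables false

open Cfsg Matrix QuadraticMap Module Cfsg.Agent.Lib.Helper25.Siegel Cfsg.Agent.Lib.Helper19.OSub
open _root_.Cfsg _root_.Cfsg.Agent.Lib.Helper25.Siegel
open Cfsg.Agent.Lib.Helper26.OSubLeaf
open S7
open Cfsg.Agent.Lib.Helper22.Om7SLeaf
open scoped commutatorElement

namespace LeafE2

variable {ι : Type} [Fintype ι] [DecidableEq ι] {F : Type*} [Field F] [Fintype F]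
  {F₀ : Subfield F} {Q : QuadraticForm F (ι → F)} {M : Subgroup (GL ι F)}

/-- rational vectors dual to a rational basis of a t.s. line -/
theorem exists_dual (h : QCtx F₀ Q) {u' v' : ι → F} (hu' : RatV F₀ u') (hv' : RatV F₀ v')
    (hts : TS Q u' v') :
    ∃ fu fv : ι → F, RatV F₀ fu ∧ RatV F₀ fv ∧ polar Q u' fu = 1 ∧ polar Q v' fu = 0 ∧
      polar Q u' fv = 0 ∧ polar Q v' fv = 1 := by
  obtain ⟨fr⟩ := S7.exists_frame h
  obtain ⟨g, hgH, hgr, hgr', ⟨s, hs, hs0, hgu⟩, s', hs', hs'0, hgv⟩ :=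
    S7.t2 h hu' hv' (fr.rat_e 0) (fr.rat_e 1) hts.Qu hts.Qv (fr.Qe 0) (fr.Qe 1) hts.uv (fr.ee 0 1)
      hts.li (fr_li_ee fr (by decide))
  have hgI : g ∈ Cfsg.isometryGroup F ⇑Q := omegaGL_le_iso (Subgroup.mem_inf.mp hgH).2
  have key : ∀ a z : ι → F, polar Q a (mv g⁻¹ z) = polar Q (mv g a) z := by
    intro a z
    rw [← iso_polar hgI a (mv g⁻¹ z), mv_mv_inv]
  refine ⟨mv g⁻¹ (s⁻¹ • fr.f 0), mv g⁻¹ (s'⁻¹ • fr.f 1),
    hgr' _ (ratV_smul (F₀.inv_mem hs) (fr.rat_f 0)), hgr' _ (ratV_smul (F₀.inv_mem hs') (fr.rat_f 1)),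
    ?_, ?_, ?_, ?_⟩
  · rw [key, hgu, polar_smul_left, polar_smul_right, fr_ef_same, smul_eq_mul, smul_eq_mul, mul_one,
      mul_inv_cancel₀ hs0]
  · rw [key, hgv, polar_smul_left, polar_smul_right, fr_ef_ne fr (show (1 : Fin 3) ≠ 0 by decide)]
    simp
  · rw [key, hgu, polar_smul_left, polar_smul_right, fr_ef_ne fr (show (0 : Fin 3) ≠ 1 by decide)]
    simp
  · rw [key, hgv, polar_smul_left, polar_smul_right, fr_ef_same, smul_eq_mul, smul_eq_mul, mul_one,
      mul_inv_cancel₀ hs'0]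

/-- E2a -/
theorem exists_sing_perp_ne (h : QCtx F₀ Q) {u' v' w : ι → F} (hu' : RatV F₀ u') (hv' : RatV F₀ v')
    (hts : TS Q u' v') (hwu : polar Q u' w = 0) (hwv : polar Q v' w = 0) (hw : ¬ InSpan u' v' w) :
    ∃ c' : ι → F, RatV F₀ c' ∧ Q c' = 0 ∧ polar Q u' c' = 0 ∧ polar Q v' c' = 0 ∧
      polar Q c' w ≠ 0 := by
  by_contra hcon
  push Not at hcon
  apply hw
  obtain ⟨d, d', hdd', hud, hud', hvd, hvd'⟩ := exists_perp_pair h hu' hv'
  have hdw : polar Q d w = 0 := hcon d hdd'.rat hdd'.Qd hud hvd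
  have hd'w : polar Q d' w = 0 := hcon d' hdd'.rat' hdd'.Qd' hud' hvd'
  have hd'd : polar Q d' d = 1 := by rw [polar_comm]; exact hdd'.dd'
  have hddz : polar Q d d = 0 := polar_self_sing hdd'.Qd
  have hd'd'z : polar Q d' d' = 0 := polar_self_sing hdd'.Qd'
  -- rational vectors orthogonal to the line are orthogonal to `w`
  have hperp : ∀ x : ι → F, RatV F₀ x → polar Q u' x = 0 → polar Q v' x = 0 → polar Q x w = 0 := by
    intro x hx hux hvx
    obtain ⟨x2, hx2⟩ : ∃ x2, x2 = x - polar Q d' x • d - polar Q d x • d' := ⟨_, rfl⟩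
    have hx2r : RatV F₀ x2 := by
      rw [hx2]
      exact ratV_sub (ratV_sub hx (ratV_smul (ratV_polar h hdd'.rat' hx) hdd'.rat))
        (ratV_smul (ratV_polar h hdd'.rat hx) hdd'.rat')
    have hx2d : polar Q x2 d = 0 := by
      rw [hx2, polar_sub_left, polar_sub_left, polar_smul_left, polar_smul_left, hddz, hd'd,
        polar_comm Q x d, smul_eq_mul, smul_eq_mul]
      ring
    have hx2d' : polar Q x2 d' = 0 := by
      rw [hx2, polar_sub_left, polar_sub_left, polar_smul_left, polar_smul_left, hdd'.dd', hd'd'z,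
        polar_comm Q x d', smul_eq_mul, smul_eq_mul]
      ring
    have hux2 : polar Q u' x2 = 0 := by
      rw [hx2, polar_sub_right, polar_sub_right, polar_smul_right, polar_smul_right, hux, hud, hud']
      simp
    have hvx2 : polar Q v' x2 = 0 := by
      rw [hx2, polar_sub_right, polar_sub_right, polar_smul_right, polar_smul_right, hvx, hvd, hvd']
      simp
    obtain ⟨s, hs⟩ : ∃ s, s = x2 + (d' + (-(Q x2)) • d) := ⟨_, rfl⟩
    have hQt : Q (d' + (-(Q x2)) • d) = -(Q x2) := by
      rw [Cfsg.Agent.Lib.Helper25.MaxTS.Q_add_smul, hdd'.Qd', hdd'.Qd, hd'd]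
      ring
    have hpt : polar Q x2 (d' + (-(Q x2)) • d) = 0 := by
      rw [polar_add_right, polar_smul_right, hx2d, hx2d', smul_zero, add_zero]
    have hQs : Q s = 0 := by
      rw [hs, Cfsg.Agent.Lib.Helper25.MaxTS.Q_add, hQt, hpt]
      ring
    have hsr : RatV F₀ s := by
      rw [hs]
      exact ratV_add hx2r (ratV_add hdd'.rat' (ratV_smul (F₀.neg_mem (h.ratQ x2 hx2r)) hdd'.rat))
    have hus : polar Q u' s = 0 := by
      rw [hs, polar_add_right, polar_add_right, polar_smul_right, hux2, hud, hud']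
      simp
    have hvs : polar Q v' s = 0 := by
      rw [hs, polar_add_right, polar_add_right, polar_smul_right, hvx2, hvd, hvd']
      simp
    have hsw : polar Q s w = 0 := hcon s hsr hQs hus hvs
    have hx2w : polar Q x2 w = 0 := by
      rw [hs, polar_add_left, polar_add_left, polar_smul_left, hdw, hd'w] at hsw
      simpa using hsw
    have hxe : x = x2 + polar Q d' x • d + polar Q d x • d' := by rw [hx2]; abel
    rw [hxe, polar_add_left, polar_add_left, polar_smul_left, polar_smul_left, hx2w, hdw, hd'w]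
    simp
  obtain ⟨fu, fv, hfu, hfv, e1, e2, e3, e4⟩ := exists_dual h hu' hv' hts
  refine ⟨polar Q fu w, polar Q fv w, ?_⟩
  have hz : w - (polar Q fu w • u' + polar Q fv w • v') = 0 := by
    apply h.nd.1
    intro y
    rw [polarBilin_apply_apply]
    apply polar_zero_of_rat (F₀ := F₀)
    intro x hx
    obtain ⟨x', hx'⟩ : ∃ x', x' = x - polar Q u' x • fu - polar Q v' x • fv := ⟨_, rfl⟩
    have hx'r : RatV F₀ x' := by
      rw [hx']
      exact ratV_sub (ratV_sub hx (ratV_smul (ratV_polar h hu' hx) hfu))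
        (ratV_smul (ratV_polar h hv' hx) hfv)
    have h1 : polar Q u' x' = 0 := by
      rw [hx', polar_sub_right, polar_sub_right, polar_smul_right, polar_smul_right, e1, e3,
        smul_eq_mul, smul_eq_mul]
      ring
    have h2 : polar Q v' x' = 0 := by
      rw [hx', polar_sub_right, polar_sub_right, polar_smul_right, polar_smul_right, e2, e4,
        smul_eq_mul, smul_eq_mul]
      ring
    have h3 := hperp x' hx'r h1 h2
    rw [hx', polar_sub_left, polar_sub_left, polar_smul_left, polar_smul_left, smul_eq_mul,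
      smul_eq_mul] at h3
    rw [polar_sub_left, polar_add_left, polar_smul_left, polar_smul_left, smul_eq_mul, smul_eq_mul,
      polar_comm Q w x]
    linear_combination h3
  exact sub_eq_zero.mp hz

/-- independence is preserved by isometries -/
theorem ts_map_li {g : GL ι F} (hg : g ∈ Cfsg.isometryGroup F ⇑Q) {u v : ι → F} (h : TS Q u v) :
    LinearIndependent F ![mv g u, mv g v] := by
  rw [LinearIndependent.pair_iff]
  intro a b hab
  have h1 : mv g (a • u + b • v) = 0 := by rw [mv_add, mv_smul, mv_smul]; exact hab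
  have h2 : a • u + b • v = 0 := by
    apply mv_injective g
    rw [h1, mv_zero]
  exact LinearIndependent.pair_iff.mp h.li a b h2

variable {u' v' : ι → F}

/-- root elements of a line in another basis -/
theorem rt_line_right (hts' : TS Q u' v') (a b κ : F) :
    rt Q (a • u' + b • v') (κ • v') 1 = rt Q u' v' (a * κ) := by
  have huu : polar Q u' u' = 0 := polar_self_sing hts'.Qu
  have hvv : polar Q v' v' = 0 := polar_self_sing hts'.Qv
  have hvu : polar Q v' u' = 0 := by rw [polar_comm]; exact hts'.uv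
  have h1 : Q (a • u' + b • v') = 0 := by
    rw [Cfsg.Agent.Lib.Helper25.MaxTS.Q_add, QuadraticMap.map_smul, QuadraticMap.map_smul, hts'.Qu,
      hts'.Qv, polar_smul_left, polar_smul_right, hts'.uv]
    simp
  have h2 : Q (κ • v') = 0 := by rw [QuadraticMap.map_smul, hts'.Qv, smul_zero]
  have h3 : polar Q (a • u' + b • v') (κ • v') = 0 := by
    rw [polar_add_left, polar_smul_left, polar_smul_left, polar_smul_right, polar_smul_right,
      hts'.uv, hvv]
    simp
  apply gl_ext
  intro x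
  rw [mv_rt h1 h2 h3, mv_rt hts'.Qu hts'.Qv hts'.uv]
  simp only [polar_add_left, polar_smul_left, smul_eq_mul]
  module

theorem rt_line_left (hts' : TS Q u' v') (a b κ : F) :
    rt Q (a • u' + b • v') (κ • u') 1 = rt Q u' v' (-(b * κ)) := by
  have huu : polar Q u' u' = 0 := polar_self_sing hts'.Qu
  have hvv : polar Q v' v' = 0 := polar_self_sing hts'.Qv
  have hvu : polar Q v' u' = 0 := by rw [polar_comm]; exact hts'.uv
  have h1 : Q (a • u' + b • v') = 0 := by
    rw [Cfsg.Agent.Lib.Helper25.MaxTS.Q_add, QuadraticMap.map_smul, QuadraticMap.map_smul, hts'.Qu,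
      hts'.Qv, polar_smul_left, polar_smul_right, hts'.uv]
    simp
  have h2 : Q (κ • u') = 0 := by rw [QuadraticMap.map_smul, hts'.Qu, smul_zero]
  have h3 : polar Q (a • u' + b • v') (κ • u') = 0 := by
    rw [polar_add_left, polar_smul_left, polar_smul_left, polar_smul_right, polar_smul_right,
      huu, hvu]
    simp
  apply gl_ext
  intro x
  rw [mv_rt h1 h2 h3, mv_rt hts'.Qu hts'.Qv hts'.uv]
  simp only [polar_add_left, polar_smul_left, smul_eq_mul]
  module

/-- the two entries of one row of the matrix of `y` on the line -/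
theorem row_mem (h : Ctx F₀ Q M) {u' v' : ι → F} (hu' : RatV F₀ u') (hv' : RatV F₀ v')
    (hts' : TS Q u' v') {a b : F} {w c' : ι → F} (hQw : Q w = 0)
    (hwu : polar Q u' w = 0) (hwv : polar Q v' w = 0) (hc' : RatV F₀ c') (hQc' : Q c' = 0)
    (huc' : polar Q u' c' = 0) (hvc' : polar Q v' c' = 0)
    (hA : rt Q (a • u' + b • v') w 1 ∈ M) :
    polar Q c' w * a ∈ F₀ ∧ polar Q c' w * b ∈ F₀ := by
  have hB₁ : rt Q v' c' 1 ∈ M := h.le (rt_mem_H0 h.toQCtx hv' hc' F₀.one_mem)
  have hB₂ : rt Q u' c' 1 ∈ M := h.le (rt_mem_H0 h.toQCtx hu' hc' F₀.one_mem)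
  have hvu : polar Q v' u' = 0 := by rw [polar_comm]; exact hts'.uv
  have h1 : Q (a • u' + b • v') = 0 := by
    rw [Cfsg.Agent.Lib.Helper25.MaxTS.Q_add, QuadraticMap.map_smul, QuadraticMap.map_smul, hts'.Qu,
      hts'.Qv, polar_smul_left, polar_smul_right, hts'.uv]
    simp
  have haw : polar Q (a • u' + b • v') w = 0 := by
    rw [polar_add_left, polar_smul_left, polar_smul_left, hwu, hwv]
    simp
  have hau : polar Q (a • u' + b • v') u' = 0 := by
    rw [polar_add_left, polar_smul_left, polar_smul_left, polar_self_sing hts'.Qu, hvu]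
    simp
  have hav : polar Q (a • u' + b • v') v' = 0 := by
    rw [polar_add_left, polar_smul_left, polar_smul_left, polar_self_sing hts'.Qv, hts'.uv]
    simp
  have hac : polar Q (a • u' + b • v') c' = 0 := by
    rw [polar_add_left, polar_smul_left, polar_smul_left, huc', hvc']
    simp
  constructor
  · have c1 := rt_comm1 (Q := Q) (a := a • u' + b • v') (w := w) (u := v') (v := c') h1 hQw
      hts'.Qv hQc' haw hav hac hvc'
    have hm := comm_mem M hA hB₁
    rw [c1, hwv, zero_smul, sub_zero, rt_line_right hts'] at hm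
    have := S7.nr h hu' hv' hts'.Qu hts'.Qv hts'.uv hts'.li hm
    rwa [mul_comm] at this
  · have c1 := rt_comm1 (Q := Q) (a := a • u' + b • v') (w := w) (u := u') (v := c') h1 hQw
      hts'.Qu hQc' haw hau hac huc'
    have hm := comm_mem M hA hB₂
    rw [c1, hwu, zero_smul, sub_zero, rt_line_left hts'] at hm
    have := S7.nr h hu' hv' hts'.Qu hts'.Qv hts'.uv hts'.li hm
    have h2 := F₀.neg_mem this
    rw [neg_neg, mul_comm] at h2
    exact h2

/-- E2 -/
theorem coset_of_line_map (h : Ctx F₀ Q M) {y : GL ι F} (hy : y ∈ M) {u v u' v' : ι → F}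
    (hu : RatV F₀ u) (hv : RatV F₀ v) (hu' : RatV F₀ u') (hv' : RatV F₀ v') (hts : TS Q u v)
    (hts' : TS Q u' v') {α β γ ε : F} (hyu : mv y u = α • u' + β • v')
    (hyv : mv y v = γ • u' + ε • v') :
    ∃ κ : F, κ ≠ 0 ∧ κ * α ∈ F₀ ∧ κ * β ∈ F₀ ∧ κ * γ ∈ F₀ ∧ κ * ε ∈ F₀ := by
  have hyI : y ∈ Cfsg.isometryGroup F ⇑Q := omegaGL_le_iso (h.le_om hy)
  obtain ⟨d, d', hdd', hud, hud', hvd, hvd'⟩ := exists_perp_pair h.toQCtx hu hv
  obtain ⟨w, hwdef⟩ : ∃ w, w = mv y d := ⟨_, rfl⟩
  have hQw : Q w = 0 := by rw [hwdef, iso_Q hyI, hdd'.Qd]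
  have e1 : polar Q (α • u' + β • v') w = 0 := by rw [← hyu, hwdef, iso_polar hyI, hud]
  have e2 : polar Q (γ • u' + ε • v') w = 0 := by rw [← hyv, hwdef, iso_polar hyI, hvd]
  rw [polar_add_left, polar_smul_left, polar_smul_left, smul_eq_mul, smul_eq_mul] at e1 e2
  -- the determinant
  have hΔ : α * ε - β * γ ≠ 0 := by
    intro h0
    have hli := (ts_map_li hyI hts)
    rw [hyu, hyv, LinearIndependent.pair_iff] at hli
    have k1 : ε • (α • u' + β • v') + (-β) • (γ • u' + ε • v') = 0 := by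
      have : ε • (α • u' + β • v') + (-β) • (γ • u' + ε • v') = (α * ε - β * γ) • u' := by module
      rw [this, h0, zero_smul]
    have k2 : (-γ) • (α • u' + β • v') + α • (γ • u' + ε • v') = 0 := by
      have : (-γ) • (α • u' + β • v') + α • (γ • u' + ε • v') = (α * ε - β * γ) • v' := by module
      rw [this, h0, zero_smul]
    obtain ⟨hε, hβ⟩ := hli _ _ k1
    obtain ⟨hγ, hα⟩ := hli _ _ k2
    have hβ' : β = 0 := neg_eq_zero.mp hβ
    have : mv y u = 0 := by rw [hyu, hα, hβ', zero_smul, zero_smul, add_zero]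
    have hu0 : u = 0 := by
      apply mv_injective y
      rw [this, mv_zero]
    have := hts.li.ne_zero 0
    simp at this
    exact this hu0
  have hwu : polar Q u' w = 0 := by
    have : (α * ε - β * γ) * polar Q u' w = 0 := by linear_combination ε * e1 - β * e2
    exact (mul_eq_zero.mp this).resolve_left hΔ
  have hwv : polar Q v' w = 0 := by
    have : (α * ε - β * γ) * polar Q v' w = 0 := by linear_combination α * e2 - γ * e1
    exact (mul_eq_zero.mp this).resolve_left hΔ
  -- `w` is not on the line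
  have hwn : ¬ InSpan u' v' w := by
    rintro ⟨a, b, hab⟩
    have hu'e : u' = (α * ε - β * γ)⁻¹ • (ε • mv y u + (-β) • mv y v) := by
      rw [hyu, hyv]
      have : ε • (α • u' + β • v') + (-β) • (γ • u' + ε • v') = (α * ε - β * γ) • u' := by module
      rw [this, smul_smul, inv_mul_cancel₀ hΔ, one_smul]
    have hv'e : v' = (α * ε - β * γ)⁻¹ • ((-γ) • mv y u + α • mv y v) := by
      rw [hyu, hyv]
      have : (-γ) • (α • u' + β • v') + α • (γ • u' + ε • v') = (α * ε - β * γ) • v' := by module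
      rw [this, smul_smul, inv_mul_cancel₀ hΔ, one_smul]
    obtain ⟨s, t, hst⟩ : ∃ s t : F, w = mv y (s • u + t • v) := by
      refine ⟨(α * ε - β * γ)⁻¹ * (a * ε - b * γ), (α * ε - β * γ)⁻¹ * (-(a * β) + b * α), ?_⟩
      rw [hab, mv_add, mv_smul, mv_smul]
      nth_rewrite 1 [hu'e]
      nth_rewrite 1 [hv'e]
      module
    rw [hwdef] at hst
    have hd : d = s • u + t • v := mv_injective y hst
    have : polar Q d d' = 0 := by
      rw [hd, polar_add_left, polar_smul_left, polar_smul_left, hud', hvd']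
      simp
    rw [hdd'.dd'] at this
    exact one_ne_zero this
  obtain ⟨c', hc', hQc', huc', hvc', hκ⟩ := exists_sing_perp_ne h.toQCtx hu' hv' hts' hwu hwv hwn
  have hA : rt Q (α • u' + β • v') w 1 ∈ M := by
    rw [← hyu, hwdef, ← conj_rt hyI]
    exact M.mul_mem (M.mul_mem hy (h.le (rt_mem_H0 h.toQCtx hu hdd'.rat F₀.one_mem))) (M.inv_mem hy)
  have hA' : rt Q (γ • u' + ε • v') w 1 ∈ M := by
    rw [← hyv, hwdef, ← conj_rt hyI]
    exact M.mul_mem (M.mul_mem hy (h.le (rt_mem_H0 h.toQCtx hv hdd'.rat F₀.one_mem))) (M.inv_mem hy)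
  obtain ⟨r1, r2⟩ := row_mem h hu' hv' hts' hQw hwu hwv hc' hQc' huc' hvc' hA
  obtain ⟨r3, r4⟩ := row_mem h hu' hv' hts' hQw hwu hwv hc' hQc' huc' hvc' hA'
  exact ⟨polar Q c' w, hκ, r1, r2, r3, r4⟩

end LeafE2

end Cfsg.Agent.Lib.Helper20.Om7S
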