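import Mathlib
import Cfsg.Prelude.Def_ClassicalGeometry
import Cfsg.Prelude.Def_GeometricClasses
import Cfsg.Agent.Lib.Helper5.TSMax
import Cfsg.Agent.Lib.Helper20.Om7S.H19_OSubDefs
import Cfsg.Agent.Lib.Helper20.Om7S.H19_OSubBasic
import Cfsg.Agent.Lib.Helper20.Om7S.H19_OSubDescent

set_option linter.dupNamespace false
set_option linter.ambiguousOpen false

namespace Cfsg.Agent.Lib.Helper20.Om7S

/-!
helper27: S5683 / S5702 leaf C2 (`omega_le_of_all`), core version: the leaves SP (`exists_sing_decomp`) and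
DEC (`rt_list_prod`) and the frame (F1) enter as explicit hypotheses.
-/

set_option autoImplicit false
set_option linter.unusedSectionVars false
set_option linter.unusedVariables false

namespace Cfsg.Agent.Lib.Helper27.OSubCore
open Cfsg.Agent.Lib.Helper27.OSubCore
open Cfsg Matrix QuadraticMap Module Cfsg.Agent.Lib.Helper25.Siegel Cfsg.Agent.Lib.Helper19.OSub
open _root_.Cfsg _root_.Cfsg.Agent.Lib.Helper25.Siegel
open scoped commutatorElement

variable {ι : Type} [Fintype ι] [DecidableEq ι] {F : Type*} [Field F] [Fintype F]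
  {F₀ : Subfield F} {Q : QuadraticForm F (ι → F)} {M : Subgroup (GL ι F)}

/-- the statement of leaf SP -/
def SPStmt (F₀ : Subfield F) (Q : QuadraticForm F (ι → F)) : Prop :=
  ∀ {e₀ e₁ f₁ : ι → F}, Q e₁ = 0 → Q f₁ = 0 → polar Q e₁ f₁ = 1 → polar Q e₀ e₁ = 0 →
    polar Q e₀ f₁ = 0 → ∀ {x : ι → F}, polar Q e₀ x = 0 →
    ∃ (s : ι → F) (c₂ c₃ : F), Q s = 0 ∧ polar Q e₀ s = 0 ∧ x = s + c₂ • f₁ + c₃ • e₁ ∧
      (QCtx F₀ Q → RatV F₀ e₁ → RatV F₀ f₁ → RatV F₀ x → RatV F₀ s ∧ c₂ ∈ F₀ ∧ c₃ ∈ F₀)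

/-- the statement of leaf DEC -/
def DECStmt (Q : QuadraticForm F (ι → F)) : Prop :=
  ∀ {a : ι → F}, Q a = 0 → ∀ (l : List ((ι → F) × F)),
    (∀ p ∈ l, Q p.1 = 0 ∧ polar Q a p.1 = 0) → ∀ {v : ι → F}, Q v = 0 → polar Q a v = 0 →
    ∀ {θ : F}, v = (l.map (fun p => p.2 • p.1)).sum + θ • a →
    rt Q a v 1 = (l.map (fun p => rt Q a p.1 p.2)).prod

/-- all root elements centred at the rational singular vector `a` lie in `M` -/
theorem rt_mem_of_all (sp : SPStmt F₀ Q) (dec : DECStmt Q) (h : QCtx F₀ Q)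
    (hall : ∀ u v : ι → F, RatV F₀ u → RatV F₀ v → ∀ c : F, rt Q u v c ∈ M)
    {a b e₁ f₁ : ι → F} (ha : RatV F₀ a) (hb : RatV F₀ b) (he₁ : RatV F₀ e₁) (hf₁ : RatV F₀ f₁)
    (hQa : Q a = 0) (hab : polar Q a b = 1) (hQe₁ : Q e₁ = 0) (hQf₁ : Q f₁ = 0)
    (h11 : polar Q e₁ f₁ = 1) (h01 : polar Q a e₁ = 0) (h01' : polar Q a f₁ = 0)
    {v : ι → F} (hQv : Q v = 0) (hav : polar Q a v = 0) : rt Q a v 1 ∈ M := by
  classical
  -- the projection
  have hπ : ∀ x : ι → F, polar Q a (x - polar Q a x • b) = 0 := by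
    intro x
    rw [polar_sub_right, polar_smul_right, hab, smul_eq_mul, mul_one, sub_self]
  have hπrat : ∀ j : ι, RatV F₀ ((Pi.single j (1 : F) : ι → F) -
      polar Q a (Pi.single j (1 : F)) • b) := by
    intro j
    exact ratV_sub (ratV_single j) (ratV_smul (ratV_polar h ha (ratV_single j)) hb)
  choose s c₂ c₃ hQs has hdec hrat using fun j : ι =>
    sp (e₀ := a) hQe₁ hQf₁ h11 h01 h01' (hπ (Pi.single j (1 : F)))
  have hv1 : v = ∑ j, v j • ((Pi.single j (1 : F) : ι → F) -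
      polar Q a (Pi.single j (1 : F)) • b) := by
    have e1 : ∑ j, v j • ((Pi.single j (1 : F) : ι → F) - polar Q a (Pi.single j (1 : F)) • b) =
        (∑ j, v j • (Pi.single j (1 : F) : ι → F)) -
          (∑ j, v j • polar Q a (Pi.single j (1 : F))) • b := by
      rw [Finset.sum_smul, ← Finset.sum_sub_distrib]
      apply Finset.sum_congr rfl
      intro j _
      rw [smul_sub, smul_smul, smul_eq_mul]
    have e2 : ∑ j, v j • polar Q a (Pi.single j (1 : F)) = polar Q a v := by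
      conv_rhs => rw [sum_single v]
      rw [← polarBilin_apply_apply, map_sum]
      apply Finset.sum_congr rfl
      intro j _
      rw [map_smul, polarBilin_apply_apply]
    rw [e1, e2, hav, zero_smul, sub_zero, ← sum_single v]
  have hv2 : v = (∑ j, v j • s j) + (∑ j, v j * c₂ j) • f₁ + (∑ j, v j * c₃ j) • e₁ := by
    conv_lhs => rw [hv1]
    rw [Finset.sum_smul, Finset.sum_smul, ← Finset.sum_add_distrib, ← Finset.sum_add_distrib]
    apply Finset.sum_congr rfl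
    intro j _
    conv_lhs => rw [hdec j]
    rw [smul_add, smul_add, smul_smul, smul_smul]
  obtain ⟨l, hl⟩ : ∃ l : List ((ι → F) × F), l = (Finset.univ.toList.map (fun j => (s j, v j))) ++
      [(f₁, ∑ j, v j * c₂ j), (e₁, ∑ j, v j * c₃ j)] := ⟨_, rfl⟩
  have hlmem : ∀ p ∈ l, Q p.1 = 0 ∧ polar Q a p.1 = 0 ∧ RatV F₀ p.1 := by
    intro p hp
    rw [hl, List.mem_append] at hp
    rcases hp with hp | hp
    · rw [List.mem_map] at hp
      obtain ⟨j, -, rfl⟩ := hp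
      exact ⟨hQs j, has j, (hrat j h he₁ hf₁ (hπrat j)).1⟩
    · simp only [List.mem_cons, List.not_mem_nil, or_false] at hp
      rcases hp with rfl | rfl
      · exact ⟨hQf₁, h01', hf₁⟩
      · exact ⟨hQe₁, h01, he₁⟩
  have hsum : v = (l.map (fun p => p.2 • p.1)).sum + (0 : F) • a := by
    rw [zero_smul, add_zero, hl, List.map_append, List.sum_append, List.map_map]
    have e3 : ((Finset.univ : Finset ι).toList.map
        ((fun p : (ι → F) × F => p.2 • p.1) ∘ fun j => (s j, v j))).sum = ∑ j, v j • s j := by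
      rw [Finset.sum_map_toList]
      rfl
    rw [e3]
    simp only [List.map_cons, List.map_nil, List.sum_cons, List.sum_nil, add_zero]
    rw [← add_assoc]
    exact hv2
  rw [dec hQa l (fun p hp => ⟨(hlmem p hp).1, (hlmem p hp).2.1⟩) hQv hav hsum]
  apply Subgroup.list_prod_mem
  intro x hx
  rw [List.mem_map] at hx
  obtain ⟨p, hp, rfl⟩ := hx
  exact hall a p.1 ha (hlmem p hp).2.2 p.2

/-- C2 (core) -/
theorem omega_le_of_all_of (sp : SPStmt F₀ Q) (dec : DECStmt Q) (h : QCtx F₀ Q)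
    (fr : Frame F₀ Q 3)
    (hall : ∀ u v : ι → F, RatV F₀ u → RatV F₀ v → ∀ c : F, rt Q u v c ∈ M) :
    Cfsg.Geo.omegaGL ⇑Q ≤ M := by
  classical
  have hn := h.card
  obtain ⟨M'', hM''⟩ : ∃ M'' : Subgroup ↥(Cfsg.isometryGroup F ⇑Q),
      M'' = M.comap (Cfsg.isometryGroup F ⇑Q).subtype ⊓ Cfsg.Omega F ⇑Q := ⟨_, rfl⟩
  -- goodness of a rational singular point with a rational partner
  have good : ∀ (a b e₁ f₁ : ι → F) (ha0 : a ≠ 0) (hQa : Q a = 0), RatV F₀ a → RatV F₀ b →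
      RatV F₀ e₁ → RatV F₀ f₁ → polar Q a b = 1 → Q e₁ = 0 → Q f₁ = 0 → polar Q e₁ f₁ = 1 →
      polar Q a e₁ = 0 → polar Q a f₁ = 0 →
      Cfsg.Agent.Lib.Helper5.TSMax.Good Q M'' (Cfsg.Agent.Lib.Helper25.PS.mk' Q a ha0 hQa) := by
    intro a b e₁ f₁ ha0 hQa ha hb he₁ hf₁ hab hQe₁ hQf₁ h11 h01 h01'
    unfold Cfsg.Agent.Lib.Helper5.TSMax.Good Cfsg.Agent.Lib.Helper25.PS.X
    rw [Subgroup.closure_le]
    rintro g ⟨u, huP, hu0, v, c, hQv, huv, hg⟩
    rw [Cfsg.Agent.Lib.Helper25.PS.mk'_val] at huP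
    obtain ⟨t, rfl⟩ := Submodule.mem_span_singleton.1 huP
    have ht0 : t ≠ 0 := by
      rintro rfl
      exact hu0 (zero_smul _ _)
    have hQu : Q (t • a) = 0 := by rw [QuadraticMap.map_smul, hQa, smul_zero]
    have hav : polar Q a v = 0 := by
      rw [polar_smul_left, smul_eq_mul] at huv
      rcases mul_eq_zero.1 huv with h0 | h0
      · exact absurd h0 ht0
      · exact h0
    rw [eq_siegG_of_coe Q hQu hQv huv hg, hM'']
    refine Subgroup.mem_inf.2 ⟨?_, siegG_mem_omega Q h.nd (by omega) _ v c hQu hQv huv⟩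
    rw [Subgroup.mem_comap, Subgroup.coe_subtype, ← rt_of hQu hQv huv, rt_smul_left hQa hQv hav]
    have hQv' : Q ((t * c) • v) = 0 := by rw [QuadraticMap.map_smul, hQv, smul_zero]
    have hav' : polar Q a ((t * c) • v) = 0 := by rw [polar_smul_right, hav, smul_zero]
    have e := rt_smul_right hQa hQv hav (t * c) 1
    rw [mul_one] at e
    rw [← e]
    exact rt_mem_of_all sp dec h hall ha hb he₁ hf₁ hQa hab hQe₁ hQf₁ h11 h01 h01' hQv' hav'
  have hne : ∀ (a b : ι → F), polar Q a b = 1 → a ≠ 0 := by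
    rintro a b hab rfl
    rw [polar_zero_left] at hab
    exact zero_ne_one hab
  have h01 : (0 : Fin 3) ≠ 1 := by decide
  have he0 : fr.e 0 ≠ 0 := hne _ _ (by rw [fr.ef, if_pos rfl])
  have hf0 : fr.f 0 ≠ 0 := hne (fr.f 0) (fr.e 0) (by rw [polar_comm, fr.ef, if_pos rfl])
  have hP := good (fr.e 0) (fr.f 0) (fr.e 1) (fr.f 1) he0 (fr.Qe 0) (fr.rat_e 0) (fr.rat_f 0)
    (fr.rat_e 1) (fr.rat_f 1) (by rw [fr.ef, if_pos rfl]) (fr.Qe 1) (fr.Qf 1)
    (by rw [fr.ef, if_pos rfl]) (fr.ee 0 1) (by rw [fr.ef, if_neg h01])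
  have hR := good (fr.f 0) (fr.e 0) (fr.e 1) (fr.f 1) hf0 (fr.Qf 0) (fr.rat_f 0) (fr.rat_e 0)
    (fr.rat_e 1) (fr.rat_f 1) (by rw [polar_comm, fr.ef, if_pos rfl]) (fr.Qe 1) (fr.Qf 1)
    (by rw [fr.ef, if_pos rfl]) (by rw [polar_comm, fr.ef, if_neg (Ne.symm h01)]) (fr.ff 0 1)
  have hPR : ¬ Cfsg.Agent.Lib.Helper25.PS.ort Q
      (Cfsg.Agent.Lib.Helper25.PS.mk' Q (fr.e 0) he0 (fr.Qe 0))
      (Cfsg.Agent.Lib.Helper25.PS.mk' Q (fr.f 0) hf0 (fr.Qf 0)) := by
    rw [Cfsg.Agent.Lib.Helper25.PS.ort_mk', fr.ef, if_pos rfl]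
    exact one_ne_zero
  have hallg := Cfsg.Agent.Lib.Helper5.TSMax.all_good_of_opposite Q h.nd (by omega) M'' hP hR hPR
  have hle : M'' ≤ Cfsg.Omega F ⇑Q := by rw [hM'']; exact inf_le_right
  have heq := Cfsg.Agent.Lib.Helper5.TSMax.eq_omega_of_all_good Q h.nd (by omega) M'' hle hallg
  rintro x ⟨g, hg, rfl⟩
  have hg' : g ∈ M'' := by rw [heq]; exact hg
  rw [hM''] at hg'
  exact (Subgroup.mem_inf.1 hg').1

end Cfsg.Agent.Lib.Helper27.OSubCore


end Cfsg.Agent.Lib.Helper20.Om7S
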