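import Mathlib
import Cfsg.Prelude.Def_ClassicalGeometry
import Cfsg.Prelude.Def_GeometricClasses
import Cfsg.Agent.Lib.Helper13.DkGen
import Cfsg.Agent.Lib.Helper20.Om7S.Wrap
import Cfsg.Agent.Lib.Helper20.Om7S.KDefs
import Cfsg.Agent.Lib.Helper23.Om7SL0
import Cfsg.Agent.Lib.Helper22.Om7SL0cd
import Cfsg.Agent.Lib.Helper1.Om7K1a
import Cfsg.Agent.Lib.Helper9.Om7SK1b
import Cfsg.Agent.Lib.Helper7.Om7SK2
import Cfsg.Agent.Lib.Helper8.Om7K4
import Cfsg.Agent.Lib.Helper12.Om7SK5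
import Cfsg.Agent.Lib.Helper12.Om7SK6
import Cfsg.Agent.Lib.Helper11.Om7SK7

set_option linter.dupNamespace false
set_option linter.ambiguousOpen false

namespace Cfsg.Agent.Lib.Helper20.Om7S

/-!
S5813 (omega7, planner helper20), subfield block: assembly of the leaves `L0a`–`K7` (`notes/Om7S_leaves.lean`): the standard
subfield subgroup `H0` is maximal in `Ω(Q)` for `7 ≤ dim`, odd characteristic, via Dickson's generation lemma.
-/

set_option autoImplicit false
set_option linter.unusedSectionVars false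
set_option linter.unusedVariables false

open Cfsg Matrix QuadraticMap Module Cfsg.Agent.Lib.Helper25.Siegel Cfsg.Agent.Lib.Helper19.OSub
open _root_.Cfsg _root_.Cfsg.Agent.Lib.Helper25.Siegel
open Cfsg.Agent.Lib.Helper26.OSubLeaf
open S7


namespace Asm
open Cfsg.Agent.Lib.Helper23.Om7SLeaf Cfsg.Agent.Lib.Helper22.Om7SLeaf Cfsg.Agent.Lib.Helper1.Om7Leaf
open Cfsg.Agent.Lib.Helper8.Om7Leaf Cfsg.Agent.Lib.Helper7.Om7SLeaf Cfsg.Agent.Lib.Helper12.Om7SLeaf Cfsg.Agent.Lib.Helper11.Om7SLeaf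
open _root_.Cfsg.Agent.Lib.Helper9.Om7SLeaf

variable {ι : Type} [Fintype ι] [DecidableEq ι] {F : Type*} [Field F] [Fintype F]
  {F₀ : Subfield F} {Q : QuadraticForm F (ι → F)} {M : Subgroup (GL ι F)}

/-- K1: two opposite root elements `rt u v 1`, `rt u' v' δ` generate the root group `X_{u,v}(F_p(δ))`, or `δ² = -1`
and they generate a group containing the involution `-1` of the hyperbolic 4-space -/
theorem k1_sl2 (h2 : (2 : F) ≠ 0) {u v u' v' : ι → F} (hq : Quad Q u v u' v') {δ : F} (hδ : δ ≠ 0) :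
    (∀ c ∈ Subfield.closure ({δ} : Set F),
      rt Q u v c ∈ Subgroup.closure ({rt Q u v 1, rt Q u' v' δ} : Set (GL ι F))) ∨
    (δ ^ 2 = -1 ∧ ∃ z ∈ Subgroup.closure ({rt Q u v 1, rt Q u' v' δ} : Set (GL ι F)),
      mv z u = -u ∧ mv z v = -v ∧ mv z u' = -u' ∧ mv z v' = -v' ∧
      ∀ x, polar Q u x = 0 → polar Q v x = 0 → polar Q u' x = 0 → polar Q v' x = 0 →
        mv z x = x) := by
  obtain ⟨φ, hφl, hφt, hφ⟩ := k1a_hom (Q := Q) hq
  set G : Subgroup (GL ι F) := Subgroup.closure ({rt Q u v 1, rt Q u' v' δ} : Set (GL ι F)) with hG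
  have hle : Subgroup.closure
      ({Cfsg.Agent.Lib.Helper13.lSL 1, Cfsg.Agent.Lib.Helper13.tSL δ} :
        Set (Matrix.SpecialLinearGroup (Fin 2) F)) ≤ G.comap φ := by
    rw [Subgroup.closure_le]
    rintro S (rfl | rfl)
    · show φ (Cfsg.Agent.Lib.Helper13.lSL 1) ∈ G
      have h1 : φ (Cfsg.Agent.Lib.Helper13.lSL (1 : F)) = (rt Q u v 1)⁻¹ := by
        have := hφl (-1)
        rw [neg_neg] at this
        rw [this, rt_inv]
      rw [h1]
      exact G.inv_mem (Subgroup.subset_closure (Set.mem_insert _ _))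
    · show φ (Cfsg.Agent.Lib.Helper13.tSL δ) ∈ G
      rw [hφt]
      exact Subgroup.subset_closure (Set.mem_insert_of_mem _ rfl)
  rcases k1b_dickson h2 hδ with hA | ⟨hsq, hz⟩
  · left
    intro c hc
    have hc' : -c ∈ Subfield.closure ({δ} : Set F) := neg_mem hc
    have := hle (hA (-c) hc')
    rw [Subgroup.mem_comap, hφl] at this
    exact this
  · right
    refine ⟨hsq, φ (Cfsg.Agent.Lib.Helper13.zSL F), hle hz, ?_⟩
    obtain ⟨e1, e2, e3, e4, e5⟩ := hφ (Cfsg.Agent.Lib.Helper13.zSL F)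
    rw [Cfsg.Agent.Lib.Helper13.zSL_coe] at e1 e2 e3 e4
    refine ⟨?_, ?_, ?_, ?_, e5⟩
    · rw [e1]; simp
    · rw [e3]; simp
    · rw [e4]; simp
    · rw [e2]; simp

/-- a `Quad` has independent first pair -/
theorem quad_li {u v u' v' : ι → F} (hq : Quad Q u v u' v') : LinearIndependent F ![u, v] := by
  rw [LinearIndependent.pair_iff]
  intro a b hab
  have h1 : polar Q (a • u + b • v) u' = a := by
    rw [polar_add_left, polar_smul_left, polar_smul_left, hq.uu', hq.vu', smul_eq_mul, smul_eq_mul]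
    ring
  have h2 : polar Q (a • u + b • v) v' = b := by
    rw [polar_add_left, polar_smul_left, polar_smul_left, hq.uv', hq.vv', smul_eq_mul, smul_eq_mul]
    ring
  rw [hab] at h1 h2
  simp only [polar_zero_left] at h1 h2
  exact ⟨h1.symm, h2.symm⟩

/-- K3: the minor of an `M`-root plane `⟨x, y⟩` against a rational totally singular pair is rational -/
theorem k3_param (h : Ctx F₀ Q M) (h2 : (2 : F) ≠ 0) {u v x y : ι → F} (hu : RatV F₀ u)
    (hv : RatV F₀ v) (hQu : Q u = 0) (hQv : Q v = 0) (huv : polar Q u v = 0) (hQx : Q x = 0)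
    (hQy : Q y = 0) (hxy : polar Q x y = 0) (hM : ∀ c ∈ F₀, rt Q x y c ∈ M) :
    minor Q x y u v ∈ F₀ := by
  by_cases hδ : minor Q x y u v = 0
  · rw [hδ]; exact F₀.zero_mem
  obtain ⟨u', v', hq, hrt⟩ := k2_dual hQu hQv huv hQx hQy hxy hδ
  obtain ⟨δ, hδdef⟩ : ∃ δ, δ = minor Q x y u v := ⟨_, rfl⟩
  rw [← hδdef] at hδ hrt ⊢
  have hli := quad_li hq
  have htM : rt Q u v 1 ∈ M := h.le (rt_mem_H0 h.toQCtx hu hv F₀.one_mem)
  have hjM : ∀ b ∈ F₀, rt Q u' v' (b * δ) ∈ M := by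
    intro b hb
    rw [← hrt]
    exact hM b hb
  -- the generic case of Dickson's lemma
  have hgen : ∀ δ' : F, rt Q u' v' δ' ∈ M →
      (∀ c ∈ Subfield.closure ({δ'} : Set F),
        rt Q u v c ∈ Subgroup.closure ({rt Q u v 1, rt Q u' v' δ'} : Set (GL ι F))) → δ' ∈ F₀ := by
    intro δ' hj hA
    have hle : Subgroup.closure ({rt Q u v 1, rt Q u' v' δ'} : Set (GL ι F)) ≤ M := by
      rw [Subgroup.closure_le]
      rintro g (rfl | rfl)
      · exact htM
      · exact hj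
    exact S7.nr h hu hv hQu hQv huv hli (hle (hA δ' (Subfield.subset_closure rfl)))
  have hj1 : rt Q u' v' δ ∈ M := by
    have := hjM 1 F₀.one_mem
    rwa [one_mul] at this
  rcases k1_sl2 h2 hq hδ with hA | ⟨hsq, z, hz, hz1, hz2, hz3, hz4, hz5⟩
  · exact hgen δ hj1 hA
  · by_cases hb : ∃ b ∈ F₀, b ≠ 0 ∧ b ^ 2 ≠ 1
    · obtain ⟨b, hbF, hb0, hb1⟩ := hb
      rcases k1_sl2 h2 hq (mul_ne_zero hb0 hδ) with hA | ⟨hsq', -⟩
      · have hbδ : b * δ ∈ F₀ := hgen (b * δ) (hjM b hbF) hA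
        have : δ = b⁻¹ * (b * δ) := by
          rw [← mul_assoc, inv_mul_cancel₀ hb0, one_mul]
        rw [this]
        exact F₀.mul_mem (F₀.inv_mem hbF) hbδ
      · exfalso
        apply hb1
        have : b ^ 2 * δ ^ 2 = -1 := by rw [← hsq']; ring
        rw [hsq] at this
        linear_combination -this
    · have hle : Subgroup.closure ({rt Q u v 1, rt Q u' v' δ} : Set (GL ι F)) ≤ M := by
        rw [Subgroup.closure_le]
        rintro g (rfl | rfl)
        · exact htM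
        · exact hj1
      exact k4_exc h h2 hu hv hq hj1 (hle hz) hz1 hz2 hz3 hz4 hz5

/-- K8: every element of `M` lies in the subfield group -/
theorem hard_case7 (h : Ctx F₀ Q M) (h2 : (2 : F) ≠ 0) {g : GL ι F} (hg : g ∈ M) :
    g ∈ Cfsg.Geo.subfieldSubgroup F₀ (1 : GL ι F) := by
  have hgI : g ∈ Cfsg.isometryGroup F ⇑Q := omegaGL_le_iso (h.le_om hg)
  apply k7_uniform h.toQCtx
  intro a ha ha0 hQa
  obtain ⟨c, c', hcc', hac, hac', -, -⟩ := exists_perp_pair h.toQCtx ha ha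
  obtain ⟨d, d', hdd', had, had', hcd, hcd'⟩ := exists_perp_pair h.toQCtx ha hcc'.rat
  -- the planes `g ⟨a, b⟩` have rational minors
  have plane : ∀ b : ι → F, RatV F₀ b → Q b = 0 → polar Q a b = 0 →
      ∀ p q : ι → F, RatV F₀ p → RatV F₀ q → minor Q (mv g a) (mv g b) p q ∈ F₀ := by
    intro b hb hQb hab
    apply k5_minors h.toQCtx h2
    intro u v hu hv hQu hQv huv
    apply k3_param h h2 hu hv hQu hQv huv (by rw [iso_Q hgI, hQa]) (by rw [iso_Q hgI, hQb])
      (by rw [iso_polar hgI, hab])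
    intro e he
    rw [← conj_rt hgI]
    exact M.mul_mem (M.mul_mem hg (h.le (rt_mem_H0 h.toQCtx ha hb he))) (M.inv_mem hg)
  refine k6_point h.toQCtx (y := mv g c) (y' := mv g d) ?_ (plane c hcc'.rat hcc'.Qd hac)
    (plane d hdd'.rat hdd'.Qd had)
  rw [Fintype.linearIndependent_iff]
  intro k hk
  rw [Fin.sum_univ_three] at hk
  simp only [Matrix.cons_val_zero, Matrix.cons_val_one, Matrix.cons_val_two, Matrix.head_cons,
    Matrix.tail_cons] at hk
  have hk' : k 0 • a + k 1 • c + k 2 • d = 0 := by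
    apply mv_injective g
    rw [mv_add, mv_add, mv_smul, mv_smul, mv_smul, mv_zero]
    exact hk
  have e2 : k 2 = 0 := by
    have := congrArg (fun w => polar Q w d') hk'
    simp only [polar_add_left, polar_smul_left, had', hcd', hdd'.dd', polar_zero_left, smul_eq_mul,
      mul_zero, mul_one, zero_add] at this
    exact this
  have e1 : k 1 = 0 := by
    have := congrArg (fun w => polar Q w c') hk'
    simp only [polar_add_left, polar_smul_left, hac', hcc'.dd', e2, polar_zero_left, smul_eq_mul,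
      mul_zero, mul_one, zero_add, zero_mul, add_zero] at this
    exact this
  have e0 : k 0 = 0 := by
    rw [e1, e2, zero_smul, zero_smul, add_zero, add_zero] at hk'
    exact (smul_eq_zero.mp hk').resolve_right ha0
  intro i
  fin_cases i
  · exact e0
  · exact e1
  · exact e2

/-- the standard subfield subgroup is maximal in `Ω(Q)`, odd characteristic, `7 ≤ dim` -/
theorem maximal_std7 (h : QCtx F₀ Q) (h2 : (2 : F) ≠ 0) (hp : (Module.finrank F₀ F).Prime) :
    Cfsg.Geo.IsMaximalIn (Cfsg.Geo.omegaGL ⇑Q) (H0 F₀ Q) := by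
  refine ⟨S7.H0_lt h hp.two_le, fun M hHM hMS => ?_⟩
  by_cases hM : Cfsg.Geo.omegaGL ⇑Q ≤ M
  · exact Or.inr (le_antisymm hMS hM)
  · left
    have hctx : Ctx F₀ Q M := { toQCtx := h, le := hHM, le_om := hMS, ne := hM, prime := hp }
    apply le_antisymm _ hHM
    intro g hg
    exact Subgroup.mem_inf.mpr ⟨hard_case7 hctx h2 hg, hMS hg⟩

end Asm


end Cfsg.Agent.Lib.Helper20.Om7S
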