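import Mathlib
import Cfsg.Prelude.Def_ClassicalGeometry
import Cfsg.Prelude.Def_GeometricClasses
import Cfsg.Agent.Lib.Helper5.LSubC
import Cfsg.Agent.Lib.Helper20.Om7S.Wrap
import Cfsg.Agent.Lib.Helper20.Om7S.KDefs
import Cfsg.Agent.Lib.Helper20.Om7S.EDefs
import Cfsg.Agent.Lib.Helper23.Om7SL0
import Cfsg.Agent.Lib.Helper22.Om7SL0cd
import Cfsg.Agent.Lib.Helper1.Om7K1a
import Cfsg.Agent.Lib.Helper7.Om7SK2
import Cfsg.Agent.Lib.Helper11.Om7SK7
import Cfsg.Agent.Lib.Helper9.QuadBridge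
import Cfsg.Agent.Lib.Helper8.OSubBR
import Cfsg.Agent.Lib.Helper5.LSubC
import Cfsg.Agent.Lib.Helper20.Om7S.H18_OSubR2
import Cfsg.Agent.Lib.Helper20.Om7S.Main
import Cfsg.Agent.Lib.Helper20.Om7S.E2
import Cfsg.Agent.Lib.Helper23.Om7EE0
import Cfsg.Agent.Lib.Helper27.Om7EE1
import Cfsg.Agent.Lib.Helper27.Om7EE7
import Cfsg.Agent.Lib.Helper27.Om7EE8a
import Cfsg.Agent.Lib.Helper8.Om7EE5
import Cfsg.Agent.Lib.Helper8.Om7EE6
import Cfsg.Agent.Lib.Helper27.Om7EE4b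
import Cfsg.Agent.Lib.Helper15.Om7EE3

set_option linter.dupNamespace false
set_option linter.ambiguousOpen false

namespace Cfsg.Agent.Lib.Helper20.Om7S

/-!
S5825 conjunct (8) (planner helper20): subfield subgroups of `Ω(Q)` are maximal for `7 ≤ dim` in ALL characteristics: assembly of
the characteristic 2 leaves `E0`–`E8a` (`notes/Om7E_leaves.lean`) with `Asm.maximal_std7` (odd characteristic, `Main.lean`).
-/

set_option autoImplicit false
set_option linter.unusedSectionVars false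
set_option linter.unusedVariables false

open Cfsg Matrix QuadraticMap Module Cfsg.Agent.Lib.Helper25.Siegel Cfsg.Agent.Lib.Helper19.OSub
open _root_.Cfsg _root_.Cfsg.Agent.Lib.Helper25.Siegel
open Cfsg.Agent.Lib.Helper26.OSubLeaf
open S7
open Cfsg.Agent.Lib.Helper23.Om7SLeaf Cfsg.Agent.Lib.Helper22.Om7SLeaf Cfsg.Agent.Lib.Helper1.Om7Leaf
open Cfsg.Agent.Lib.Helper7.Om7SLeaf Cfsg.Agent.Lib.Helper11.Om7SLeaf


namespace AsmE
open LeafE2 Cfsg.Agent.Lib.Helper23.Om7ELeaf Cfsg.Agent.Lib.Helper8.Om7ELeaf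
open Cfsg.Agent.Lib.Helper27.Om7ELeafB Cfsg.Agent.Lib.Helper15.Om7ELeaf
open Cfsg.Agent.Lib.Helper27.Om7ELeaf

variable {ι : Type} [Fintype ι] [DecidableEq ι] {F : Type*} [Field F] [Fintype F]
  {F₀ : Subfield F} {Q : QuadraticForm F (ι → F)} {M : Subgroup (GL ι F)}

/-! ### small lemmas -/

theorem ts_map {g : GL ι F} (hg : g ∈ Cfsg.isometryGroup F ⇑Q) {u v : ι → F} (h : TS Q u v) :
    TS Q (mv g u) (mv g v) := by
  refine ⟨by rw [iso_Q hg, h.Qu], by rw [iso_Q hg, h.Qv], by rw [iso_polar hg, h.uv], ?_⟩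
  rw [LinearIndependent.pair_iff]
  intro a b hab
  have h1 : mv g (a • u + b • v) = 0 := by rw [mv_add, mv_smul, mv_smul]; exact hab
  have h2 : a • u + b • v = 0 := by
    apply mv_injective g
    rw [h1, mv_zero]
  exact LinearIndependent.pair_iff.mp h.li a b h2

theorem inSpan_map (g : GL ι F) {u v x : ι → F} (h : InSpan u v x) :
    InSpan (mv g u) (mv g v) (mv g x) := by
  obtain ⟨a, b, rfl⟩ := h
  exact ⟨a, b, by rw [mv_add, mv_smul, mv_smul]⟩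

theorem inSpan_trans {u v p p' x : ι → F} (hp : InSpan u v p) (hp' : InSpan u v p')
    (hx : InSpan p p' x) : InSpan u v x := by
  obtain ⟨a, b, rfl⟩ := hp
  obtain ⟨c, d, rfl⟩ := hp'
  obtain ⟨s, t, rfl⟩ := hx
  exact ⟨s * a + t * c, s * b + t * d, by module⟩

/-- elements of `⟨rt u v 1, rt x y 1⟩` fix the common orthogonal complement pointwise -/
theorem closure_fix {u v x y : ι → F} {w : GL ι F}
    (hw : w ∈ Subgroup.closure ({rt Q u v 1, rt Q x y 1} : Set (GL ι F))) {z : ι → F}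
    (hu : polar Q u z = 0) (hv : polar Q v z = 0) (hx : polar Q x z = 0) (hy : polar Q y z = 0) :
    mv w z = z := by
  have hgen : ∀ a b : ι → F, polar Q a z = 0 → polar Q b z = 0 → mv (rt Q a b 1) z = z := by
    intro a b ha hb
    by_cases hh : Q a = 0 ∧ Q b = 0 ∧ polar Q a b = 0
    · rw [mv_rt hh.1 hh.2.1 hh.2.2, ha, hb]
      simp
    · rw [rt_of_not hh, mv_one]
  induction hw using Subgroup.closure_induction with
  | mem g hg =>
    rcases hg with rfl | rfl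
    · exact hgen u v hu hv
    · exact hgen x y hx hy
  | one => exact mv_one z
  | mul g g' _ _ ihg ihg' => rw [mv_mul, ihg', ihg]
  | inv g _ ihg =>
    have := mv_inv_mv g z
    rw [ihg] at this
    exact this

/-- an isometry commuting with a root element stabilises its line -/
theorem comm_stab (hnd : (polarBilin Q).Nondegenerate) {z : GL ι F}
    (hz : z ∈ Cfsg.isometryGroup F ⇑Q) {u v : ι → F} (huv : TS Q u v)
    (hc : z * rt Q u v 1 = rt Q u v 1 * z) : InSpan u v (mv z u) ∧ InSpan u v (mv z v) := by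
  have h1 : rt Q (mv z u) (mv z v) 1 = rt Q u v 1 := by
    rw [← conj_rt hz, hc, mul_assoc, mul_inv_cancel, mul_one]
  exact span_of_rt_eq hnd (ts_map hz huv) huv h1

/-- a vector of a line orthogonal to `x, y` kills the minor -/
theorem minor_eq_zero_of_perp {x y b₁ b₂ p : ι → F} (hp : InSpan b₁ b₂ p) (hp0 : p ≠ 0)
    (hpx : polar Q p x = 0) (hpy : polar Q p y = 0) : minor Q x y b₁ b₂ = 0 := by
  obtain ⟨s, t, rfl⟩ := hp
  rw [polar_add_left, polar_smul_left, polar_smul_left, smul_eq_mul, smul_eq_mul] at hpx hpy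
  unfold minor
  by_cases hs : s = 0
  · have ht : t ≠ 0 := by
      rintro rfl
      apply hp0
      rw [hs, zero_smul, zero_smul, add_zero]
    rw [hs, zero_mul, zero_add] at hpx hpy
    have e1 := (mul_eq_zero.mp hpx).resolve_left ht
    have e2 := (mul_eq_zero.mp hpy).resolve_left ht
    rw [e1, e2]
    ring
  · have e1 : polar Q b₁ x = -(s⁻¹ * t) * polar Q b₂ x := by
      field_simp
      linear_combination hpx
    have e2 : polar Q b₁ y = -(s⁻¹ * t) * polar Q b₂ y := by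
      field_simp
      linear_combination hpy
    rw [e1, e2]
    ring

/-! ### case 2: an `M`-line opposite to all rational lines does not exist -/

theorem opp_all_false (h : Ctx F₀ Q M) (hc2 : (2 : F) = 0) {x y : ι → F} (hxy : TS Q x y)
    (hM : rt Q x y 1 ∈ M)
    (hopp : ∀ u v : ι → F, RatV F₀ u → RatV F₀ v → TS Q u v → minor Q x y u v ≠ 0) : False := by
  obtain ⟨fr⟩ := S7.exists_frame h.toQCtx
  have ts01 : TS Q (fr.e 0) (fr.e 1) := ⟨fr.Qe 0, fr.Qe 1, fr.ee 0 1, fr_li_ee fr (by decide)⟩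
  have ts02 : TS Q (fr.e 0) (fr.e 2) := ⟨fr.Qe 0, fr.Qe 2, fr.ee 0 2, fr_li_ee fr (by decide)⟩
  -- the point `p₀` of the plane orthogonal to `x, y`
  obtain ⟨c₁, hc₁⟩ : ∃ c₁, c₁ = polar Q x (fr.e 1) * polar Q y (fr.e 2) -
    polar Q x (fr.e 2) * polar Q y (fr.e 1) := ⟨_, rfl⟩
  obtain ⟨c₂, hc₂⟩ : ∃ c₂, c₂ = polar Q x (fr.e 2) * polar Q y (fr.e 0) -
    polar Q x (fr.e 0) * polar Q y (fr.e 2) := ⟨_, rfl⟩
  obtain ⟨c₃, hc₃⟩ : ∃ c₃, c₃ = polar Q x (fr.e 0) * polar Q y (fr.e 1) -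
    polar Q x (fr.e 1) * polar Q y (fr.e 0) := ⟨_, rfl⟩
  obtain ⟨p₀, hp₀⟩ : ∃ p₀, p₀ = c₁ • fr.e 0 + c₂ • fr.e 1 + c₃ • fr.e 2 := ⟨_, rfl⟩
  have hc₃0 : c₃ ≠ 0 := by
    have := hopp (fr.e 0) (fr.e 1) (fr.rat_e 0) (fr.rat_e 1) ts01
    unfold minor at this
    rw [hc₃, polar_comm Q x (fr.e 0), polar_comm Q y (fr.e 1), polar_comm Q x (fr.e 1),
      polar_comm Q y (fr.e 0)]
    intro h0
    apply this
    linear_combination h0
  have hp₀x : polar Q p₀ x = 0 := by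
    rw [hp₀, polar_add_left, polar_add_left, polar_smul_left, polar_smul_left, polar_smul_left,
      smul_eq_mul, smul_eq_mul, smul_eq_mul, polar_comm Q (fr.e 0) x, polar_comm Q (fr.e 1) x,
      polar_comm Q (fr.e 2) x, hc₁, hc₂, hc₃]
    ring
  have hp₀y : polar Q p₀ y = 0 := by
    rw [hp₀, polar_add_left, polar_add_left, polar_smul_left, polar_smul_left, polar_smul_left,
      smul_eq_mul, smul_eq_mul, smul_eq_mul, polar_comm Q (fr.e 0) y, polar_comm Q (fr.e 1) y,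
      polar_comm Q (fr.e 2) y, hc₁, hc₂, hc₃]
    ring
  have hp₀e : ∀ i, polar Q (fr.e i) p₀ = 0 := by
    intro i
    rw [hp₀, polar_add_right, polar_add_right, polar_smul_right, polar_smul_right,
      polar_smul_right, fr.ee, fr.ee, fr.ee]
    simp
  have hp₀0 : p₀ ≠ 0 := by
    intro h0
    have : polar Q p₀ (fr.f 2) = c₃ := by
      rw [hp₀, polar_add_left, polar_add_left, polar_smul_left, polar_smul_left, polar_smul_left,
        fr_ef_ne fr (show (0 : Fin 3) ≠ 2 by decide), fr_ef_ne fr (show (1 : Fin 3) ≠ 2 by decide),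
        fr_ef_same]
      simp
    rw [h0, polar_zero_left] at this
    exact hc₃0 this.symm
  -- the two conjugating elements
  have ht1M : rt Q (fr.e 0) (fr.e 1) 1 ∈ M :=
    h.le (rt_mem_H0 h.toQCtx (fr.rat_e 0) (fr.rat_e 1) F₀.one_mem)
  have ht2M : rt Q (fr.e 0) (fr.e 2) 1 ∈ M :=
    h.le (rt_mem_H0 h.toQCtx (fr.rat_e 0) (fr.rat_e 2) F₀.one_mem)
  obtain ⟨w₁, hw₁c, hw₁⟩ := exists_conj_of_opp hc2 ts01 hxy
    (hopp _ _ (fr.rat_e 0) (fr.rat_e 1) ts01)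
  obtain ⟨w₂, hw₂c, hw₂⟩ := exists_conj_of_opp hc2 ts02 hxy
    (hopp _ _ (fr.rat_e 0) (fr.rat_e 2) ts02)
  have hle1 : Subgroup.closure ({rt Q (fr.e 0) (fr.e 1) 1, rt Q x y 1} : Set (GL ι F)) ≤ M := by
    rw [Subgroup.closure_le]
    rintro g (rfl | rfl)
    · exact ht1M
    · exact hM
  have hle2 : Subgroup.closure ({rt Q (fr.e 0) (fr.e 2) 1, rt Q x y 1} : Set (GL ι F)) ≤ M := by
    rw [Subgroup.closure_le]
    rintro g (rfl | rfl)
    · exact ht2M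
    · exact hM
  obtain ⟨hh, hhdef⟩ : ∃ hh, hh = w₂⁻¹ * w₁ := ⟨_, rfl⟩
  have hhM : hh ∈ M := by
    rw [hhdef]
    exact M.mul_mem (M.inv_mem (hle2 hw₂c)) (hle1 hw₁c)
  have hhI : hh ∈ Cfsg.isometryGroup F ⇑Q := omegaGL_le_iso (h.le_om hhM)
  have hconj : hh * rt Q (fr.e 0) (fr.e 1) 1 * hh⁻¹ = rt Q (fr.e 0) (fr.e 2) 1 := by
    have e1 : hh * rt Q (fr.e 0) (fr.e 1) 1 * hh⁻¹ =
        w₂⁻¹ * (w₁ * rt Q (fr.e 0) (fr.e 1) 1 * w₁⁻¹) * w₂ := by
      rw [hhdef]; group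
    rw [e1, hw₁, ← hw₂]
    group
  rw [conj_rt hhI] at hconj
  obtain ⟨hs0, hs1⟩ := span_of_rt_eq h.nd (ts_map hhI ts01) ts02 hconj
  have hsub : hh ∈ Cfsg.Geo.subfieldSubgroup F₀ (1 : GL ι F) :=
    mem_of_line_map h hhM (fr.rat_e 0) (fr.rat_e 1) (fr.rat_e 0) (fr.rat_e 2) ts01 ts02 hs0 hs1
  have hrat := ratact_of_mem h.toQCtx hc2 hsub hhI
  -- `hh` fixes `p₀`
  have hfix : mv hh p₀ = p₀ := by
    have f1 : mv w₁ p₀ = p₀ := closure_fix hw₁c (hp₀e 0) (hp₀e 1)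
      (by rw [polar_comm]; exact hp₀x) (by rw [polar_comm]; exact hp₀y)
    have f2 : mv w₂ p₀ = p₀ := closure_fix hw₂c (hp₀e 0) (hp₀e 2)
      (by rw [polar_comm]; exact hp₀x) (by rw [polar_comm]; exact hp₀y)
    rw [hhdef, mv_mul, f1]
    have := mv_inv_mv w₂ p₀
    rw [f2] at this
    exact this
  rw [hp₀] at hfix
  rcases hull_fix hrat (fr.rat_e 0) (fr.rat_e 1) (fr.rat_e 2) hfix with
    ⟨l₁, l₂, l₃, hl₁, hl₂, hl₃, hl, hrel⟩ | ⟨-, hfix1, -⟩
  · obtain ⟨b₁, b₂, hb₁, hb₂, hbts, hbsp⟩ := exists_rat_line_of_dep fr hl₁ hl₂ hl₃ hl hrel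
    rw [← hp₀] at hbsp
    exact hopp b₁ b₂ hb₁ hb₂ hbts (minor_eq_zero_of_perp hbsp hp₀0 hp₀x hp₀y)
  · rw [hfix1] at hs1
    obtain ⟨a, b, hab⟩ := hs1
    have := congrArg (fun w => polar Q w (fr.f 1)) hab
    simp only [polar_add_left, polar_smul_left, fr_ef_same,
      fr_ef_ne fr (show (0 : Fin 3) ≠ 1 by decide), fr_ef_ne fr (show (2 : Fin 3) ≠ 1 by decide),
      smul_eq_mul, mul_zero, add_zero] at this
    exact one_ne_zero this

/-! ### case 1: some rational line is not opposite to `g l` -/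

theorem mem_of_nonopp (h : Ctx F₀ Q M) (hc2 : (2 : F) = 0) {g : GL ι F} (hg : g ∈ M)
    {a c : ι → F} (ha : RatV F₀ a) (hc : RatV F₀ c) (hac : TS Q a c) {u v : ι → F}
    (hu : RatV F₀ u) (hv : RatV F₀ v) (huv : TS Q u v)
    (hδ : minor Q (mv g a) (mv g c) u v = 0) :
    g ∈ Cfsg.Geo.subfieldSubgroup F₀ (1 : GL ι F) := by
  have hgI : g ∈ Cfsg.isometryGroup F ⇑Q := omegaGL_le_iso (h.le_om hg)
  have hgI' : g⁻¹ ∈ Cfsg.isometryGroup F ⇑Q := Subgroup.inv_mem _ hgI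
  have hxy : TS Q (mv g a) (mv g c) := ts_map hgI hac
  have htl : rt Q a c 1 ∈ M := h.le (rt_mem_H0 h.toQCtx ha hc F₀.one_mem)
  have htm : rt Q (mv g a) (mv g c) 1 ∈ M := by
    rw [← conj_rt hgI]
    exact M.mul_mem (M.mul_mem hg htl) (M.inv_mem hg)
  have htl' : rt Q u v 1 ∈ M := h.le (rt_mem_H0 h.toQCtx hu hv F₀.one_mem)
  obtain ⟨p, p', hpp', hzc, hz1, hz2⟩ := exists_comm_root huv hxy hδ
  have hle : Subgroup.closure ({rt Q u v 1, rt Q (mv g a) (mv g c) 1} : Set (GL ι F)) ≤ M := by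
    rw [Subgroup.closure_le]
    rintro k (rfl | rfl)
    · exact htl'
    · exact htm
  have hzM : rt Q p p' 1 ∈ M := hle hzc
  have hzI : rt Q p p' 1 ∈ Cfsg.isometryGroup F ⇑Q := rt_mem_iso p p' 1
  -- `z` is rational
  obtain ⟨s1, s2⟩ := comm_stab h.nd hzI huv hz1
  have hzsub := mem_of_line_map h hzM hu hv hu hv huv huv s1 s2
  obtain ⟨u₂, v₂, hu₂, hv₂, hts₂, -, -, hu₂p, hv₂p⟩ := rat_line_of_rt_mem h.toQCtx hc2 hpp' hzsub
  -- `g⁻¹ z g` is rational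
  have hz'eq : g⁻¹ * rt Q p p' 1 * g = rt Q (mv g⁻¹ p) (mv g⁻¹ p') 1 := by
    have := conj_rt hgI' p p' (1 : F)
    rw [inv_inv] at this
    exact this
  have hz'M : rt Q (mv g⁻¹ p) (mv g⁻¹ p') 1 ∈ M := by
    rw [← hz'eq]
    exact M.mul_mem (M.mul_mem (M.inv_mem hg) hzM) hg
  have hz'c : rt Q (mv g⁻¹ p) (mv g⁻¹ p') 1 * rt Q a c 1 =
      rt Q a c 1 * rt Q (mv g⁻¹ p) (mv g⁻¹ p') 1 := by
    have e : rt Q (mv g a) (mv g c) 1 = g * rt Q a c 1 * g⁻¹ := (conj_rt hgI a c 1).symm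
    rw [e] at hz2
    rw [← hz'eq]
    calc g⁻¹ * rt Q p p' 1 * g * rt Q a c 1
        = g⁻¹ * (rt Q p p' 1 * (g * rt Q a c 1 * g⁻¹)) * g := by group
      _ = g⁻¹ * ((g * rt Q a c 1 * g⁻¹) * rt Q p p' 1) * g := by rw [hz2]
      _ = rt Q a c 1 * (g⁻¹ * rt Q p p' 1 * g) := by group
  have hpp'' : TS Q (mv g⁻¹ p) (mv g⁻¹ p') := ts_map hgI' hpp'
  obtain ⟨s3, s4⟩ := comm_stab h.nd (rt_mem_iso _ _ 1) hac hz'c
  have hz'sub := mem_of_line_map h hz'M ha hc ha hc hac hac s3 s4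
  obtain ⟨u₃, v₃, hu₃, hv₃, hts₃, hp3, hp3', -, -⟩ :=
    rat_line_of_rt_mem h.toQCtx hc2 hpp'' hz'sub
  -- `g⁻¹` maps the rational line `⟨u₂, v₂⟩` to the rational line `⟨u₃, v₃⟩`
  have k1 : InSpan u₃ v₃ (mv g⁻¹ u₂) := inSpan_trans hp3 hp3' (inSpan_map g⁻¹ hu₂p)
  have k2 : InSpan u₃ v₃ (mv g⁻¹ v₂) := inSpan_trans hp3 hp3' (inSpan_map g⁻¹ hv₂p)
  have := mem_of_line_map h (M.inv_mem hg) hu₂ hv₂ hu₃ hv₃ hts₂ hts₃ k1 k2
  have h2 := Subgroup.inv_mem _ this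
  rwa [inv_inv] at h2

/-! ### the hard case in characteristic 2 and the final theorem -/

theorem hard_case2_7 (h : Ctx F₀ Q M) (hc2 : (2 : F) = 0) {g : GL ι F} (hg : g ∈ M) :
    g ∈ Cfsg.Geo.subfieldSubgroup F₀ (1 : GL ι F) := by
  obtain ⟨fr⟩ := S7.exists_frame h.toQCtx
  have ts01 : TS Q (fr.e 0) (fr.e 1) := ⟨fr.Qe 0, fr.Qe 1, fr.ee 0 1, fr_li_ee fr (by decide)⟩
  have hgI : g ∈ Cfsg.isometryGroup F ⇑Q := omegaGL_le_iso (h.le_om hg)
  by_cases hex : ∃ u v : ι → F, RatV F₀ u ∧ RatV F₀ v ∧ TS Q u v ∧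
      minor Q (mv g (fr.e 0)) (mv g (fr.e 1)) u v = 0
  · obtain ⟨u, v, hu, hv, huv, hδ⟩ := hex
    exact mem_of_nonopp h hc2 hg (fr.rat_e 0) (fr.rat_e 1) ts01 hu hv huv hδ
  · exfalso
    push Not at hex
    have htm : rt Q (mv g (fr.e 0)) (mv g (fr.e 1)) 1 ∈ M := by
      rw [← conj_rt hgI]
      exact M.mul_mem (M.mul_mem hg
        (h.le (rt_mem_H0 h.toQCtx (fr.rat_e 0) (fr.rat_e 1) F₀.one_mem))) (M.inv_mem hg)
    exact opp_all_false h hc2 (ts_map hgI ts01) htm (fun u v hu hv huv => hex u v hu hv huv)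

/-- the standard subfield subgroup is maximal in `Ω(Q)`: all characteristics, `7 ≤ dim` -/
theorem maximal_std_all7 (h : QCtx F₀ Q) (hp : (Module.finrank F₀ F).Prime) :
    Cfsg.Geo.IsMaximalIn (Cfsg.Geo.omegaGL ⇑Q) (H0 F₀ Q) := by
  by_cases h2 : (2 : F) = 0
  · refine ⟨S7.H0_lt h hp.two_le, fun M hHM hMS => ?_⟩
    by_cases hM : Cfsg.Geo.omegaGL ⇑Q ≤ M
    · exact Or.inr (le_antisymm hMS hM)
    · left
      have hctx : Ctx F₀ Q M := { toQCtx := h, le := hHM, le_om := hMS, ne := hM, prime := hp }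
      apply le_antisymm _ hHM
      intro g hg
      exact Subgroup.mem_inf.mpr ⟨hard_case2_7 hctx h2 hg, hMS hg⟩
  · exact Asm.maximal_std7 h h2 hp

end AsmE

/-- **Subfield subgroups of `Ω(Q)` are maximal**: every nondegenerate quadratic form in dimension `n ≥ 7` over a finite field
(all characteristics, both types), every prime degree (the statement of S5683 / S5702 with `7 ≤ n`) -/
theorem subfield_max_low {F : Type*} [Field F] [Fintype F] {n : ℕ} (hn : 7 ≤ n)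
    (Q : (Fin n → F) → F) (hQ : Cfsg.Geo.IsNondegenerateQuadraticForm Q) (F₀ : Subfield F) (r : ℕ)
    (hr : r.Prime) (hcard : Fintype.card F = Nat.card F₀ ^ r)
    (P : Matrix.GeneralLinearGroup (Fin n) F) (ζ : F) (hζ : ζ ≠ 0)
    (hP : Cfsg.Geo.IsQuadFormRationalStructure (fun v : Fin n → F => ζ * Q v) F₀ P) :
    Cfsg.Geo.IsMaximalIn (Cfsg.Geo.omegaGL Q)
      (Cfsg.Geo.subfieldSubgroup F₀ P ⊓ Cfsg.Geo.omegaGL Q) := by
  have hfr : Module.finrank F₀ F = r := _root_.Cfsg.Agent.Lib.Helper5.LSub.finrank_eq_of_card F₀ hcard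
  have hp : (Module.finrank F₀ F).Prime := by rw [hfr]; exact hr
  obtain ⟨Qf, hQf⟩ : ∃ Qf : QuadraticForm F (Fin n → F), Qf =
    _root_.Cfsg.Agent.Lib.Helper9.QuadBridge.ofFun Q hQ := ⟨_, rfl⟩
  have hcoe : ⇑Qf = Q := by rw [hQf]; rfl
  have hnd : (QuadraticMap.polarBilin Qf).Nondegenerate := by
    rw [hQf]; exact _root_.Cfsg.Agent.Lib.Helper9.QuadBridge.ofFun_nondeg Q hQ
  have hnd₁ : (QuadraticMap.polarBilin (ζ • Qf)).Nondegenerate :=
    _root_.Cfsg.Agent.Lib.Helper8.OSubLeaf19.smul_nondeg Qf hζ hnd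
  have hctx : QCtx F₀ ((ζ • Qf).comp (Matrix.toLin' (P : Matrix (Fin n) (Fin n) F))) := by
    refine ⟨Cfsg.Agent.Lib.Helper18.OSubLeaf.comp_nondeg (ζ • Qf) P hnd₁, by
      rw [Fintype.card_fin]; exact hn, ?_⟩
    intro x hx
    rw [QuadraticMap.comp_apply, Matrix.toLin'_apply, _root_.smul_apply, smul_eq_mul, hcoe]
    exact hP x hx
  have := Cfsg.Agent.Lib.Helper18.OSubLeaf.maximal_transfer (ζ • Qf) F₀ P
    (AsmE.maximal_std_all7 hctx hp)
  rw [_root_.Cfsg.Agent.Lib.Helper8.OSubLeaf19.omegaGL_smul Qf hζ, hcoe] at this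
  exact this

end Cfsg.Agent.Lib.Helper20.Om7S
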